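import Groth.Agent.H66.PUnip.Mu
import Groth.Agent.H66.ConjRat.GalPts
import Groth.Agent.H66.Trigon2
import Groth.Agent.H66.UnipPoints
import Groth.Agent.H66.Kolchin
import Groth.Agent.Lib.Comod.Cartier
import Groth.Agent.Lib.Hopf.Irred
import Groth.Agent.S4128
import Mathlib

/-!
Over an algebraically closed field a group without subgroups isomorphic to `μ_l` for all primes `l` is unipotent.
-/

set_option autoImplicit false
set_option linter.unusedSectionVars false
set_option linter.style.haveILetI false
universe u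

namespace Groth.Agent.H66.PUnip

open TensorProduct WithConv Groth.Agent.Lib.Comod.Basic Groth.Agent.H66.Cot
open scoped Groth.Agent.H66.MultExt

noncomputable section

variable {k : Type u} [Field k] [IsAlgClosed k] {A : Type u} [CommRing A] [HopfAlgebra k A] [Algebra.FiniteType k A]

local notation "ε" => Bialgebra.counitAlgHom k A

/-- A commutative group of points cuts out a cocommutative quotient. -/
theorem isCocomm_of_separated {H : Type u} [CommRing H] [HopfAlgebra k H] (S : Set (WithConv (H →ₐ[k] k)))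
    (hsep : ∀ w : H, (∀ z ∈ S, z.ofConv w = 0) → w = 0) (hcomm : ∀ x ∈ S, ∀ y ∈ S, x * y = y * x) :
    Coalgebra.IsCocomm k H := by
  classical
  have hpair : ∀ w : H ⊗[k] H, (∀ x ∈ S, ∀ y ∈ S,
      Algebra.TensorProduct.lift x.ofConv y.ofConv (fun _ _ => Commute.all _ _) w = 0) → w = 0 := by
    intro w hw
    let b := Module.Free.chooseBasis k H
    let e := TensorProduct.equivFinsuppOfBasisRight b (M := H)
    refine e.injective ((Finsupp.ext fun i => hsep _ fun x hx => ?_).trans (map_zero e).symm)
    have h0 : TensorProduct.lid k H (x.ofConv.toLinearMap.rTensor H w) = 0 := hsep _ fun y hy => by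
      rw [← hw x hx y hy]
      clear hw
      induction w using TensorProduct.induction_on with
      | zero => simp
      | add p q hp hq => simp only [map_add, hp, hq]
      | tmul p q => simp
    have hnat : ∀ v : H ⊗[k] H, x.ofConv (e v i) = b.repr (TensorProduct.lid k H (x.ofConv.toLinearMap.rTensor H v)) i := by
      intro v
      induction v using TensorProduct.induction_on with
      | zero => simp
      | add p q hp hq => simp only [map_add, Finsupp.add_apply, hp, hq]
      | tmul p q => simp [e, mul_comm]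
    rw [hnat, h0, map_zero, Finsupp.zero_apply]
  refine ⟨LinearMap.ext fun a => sub_eq_zero.1 (hpair _ fun x hx y hy => ?_)⟩
  rw [map_sub, sub_eq_zero]
  simp only [LinearMap.comp_apply, LinearEquiv.coe_coe]
  have h1 : ∀ v : H ⊗[k] H, Algebra.TensorProduct.lift x.ofConv y.ofConv (fun _ _ => Commute.all _ _)
      (TensorProduct.comm k H H v) = Algebra.TensorProduct.lift y.ofConv x.ofConv (fun _ _ => Commute.all _ _) v := by
    intro v
    induction v using TensorProduct.induction_on with
    | zero => simp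
    | add p q hp hq => simp only [map_add, hp, hq]
    | tmul p q => simp [mul_comm]
  rw [h1]
  exact ((AlgHom.convMul_apply y x a).symm.trans (congrArg (fun T : WithConv (H →ₐ[k] k) => T.ofConv a)
    (hcomm y hy x hx))).trans (AlgHom.convMul_apply x y a)

/-- A commutative group without characters is unipotent; a character gives a subgroup isomorphic to some `μ_n`. -/
theorem isUnipotent_or_exists_mu {H : Type u} [CommRing H] [HopfAlgebra k H] [Algebra.FiniteType k H]
    [Coalgebra.IsCocomm k H] : HopfRep.IsUnipotent k H ∨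
      ∃ n : ℕ, n.Prime ∧ ∃ φ : H →ₐc[k] MonoidAlgebra k (Multiplicative (ZMod n)), Function.Surjective φ := by
  classical
  have hT : HopfRep.IsTrigonalizable k (H) := H66.Trigon.isTrigonalizable_of_isCocomm
  let M := GroupLike k (H)
  let B := MonoidAlgebra k M
  let ψ : B →ₐc[k] H := H66.Trigon2.charMap k (H)
  let J : Ideal (H) := Ideal.map (ψ : B →+* H) (RingHom.ker (Bialgebra.counitAlgHom k B))
  have hJ' : J = SGA3.augIdealSpan k (H) (ψ : B →ₐ[k] H).range := by
    refine le_antisymm (Ideal.map_le_iff_le_comap.2 fun c hc => Ideal.mem_comap.2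
      (Ideal.subset_span (α := H) (s := {a | a ∈ (ψ : B →ₐ[k] H).range ∧ CoalgebraStruct.counit (R := k) a = 0})
        ⟨⟨c, rfl⟩, ?_⟩)) (Ideal.span_le.2 ?_)
    · exact (CoalgHomClass.counit_comp_apply ψ c).trans hc
    · rintro _ ⟨⟨c, rfl⟩, hc⟩
      exact Ideal.mem_map_of_mem _ ((CoalgHomClass.counit_comp_apply ψ c).symm.trans hc)
  haveI : J.IsHopfIdeal k :=
    hJ' ▸ Lib.Hopf.Irred.isHopfIdeal_augIdealSpan (Lib.HopfTransfer.isHopfSubalgebra_range ψ)
  have hU : HopfRep.IsUnipotent k ((H) ⧸ J) := H66.Trigon2.isUnipotent_kernel hT J fun x hx => by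
    have h1 : x - 1 = (ψ : B →+* H) (MonoidAlgebra.single (⟨x, hx⟩ : M) 1 - 1) := by
      rw [map_sub, map_one]
      congr 1
      exact (H66.Trigon2.charMap_single (k := k) (A := H) ⟨x, hx⟩).symm
    rw [h1]
    refine Ideal.mem_map_of_mem _ ?_
    rw [RingHom.mem_ker, map_sub, map_one, Bialgebra.counitAlgHom_apply, MonoidAlgebra.counit_single,
      CommSemiring.counit_apply, sub_self]
  rcases subsingleton_or_nontrivial M with hM | hM
  · -- no character: the closed subgroup is unipotent
    have hker : RingHom.ker (Bialgebra.counitAlgHom k B) = ⊥ := by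
      refine eq_bot_iff.2 fun x hx => (Submodule.mem_bot B).2 ?_
      have hx1 : x = MonoidAlgebra.single (1 : M) (CoalgebraStruct.counit (R := k) x) := by
        clear hx
        induction x using MonoidAlgebra.induction_linear with
        | zero => simp
        | add p q hp hq => rw [map_add, MonoidAlgebra.single_add, ← hp, ← hq]
        | single m c => rw [MonoidAlgebra.counit_single, CommSemiring.counit_apply, Subsingleton.elim m 1]
      rw [hx1, show CoalgebraStruct.counit (R := k) x = 0 from hx, MonoidAlgebra.single_zero]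
    have hJ0 : J = ⊥ := by show Ideal.map _ _ = ⊥; rw [hker, Ideal.map_bot]
    have hUH : HopfRep.IsUnipotent k (H) := H66.ExactSeq.isUnipotent_of_injective
      (Bialgebra.Quotient.mkBialgHom (R := k) J : H →ₐc[k] (H) ⧸ J) (fun x y hxy => by
        have := Ideal.Quotient.eq.1 (show Ideal.Quotient.mk J x = Ideal.Quotient.mk J y from hxy)
        rwa [hJ0, Ideal.mem_bot, sub_eq_zero] at this) hU
    exact Or.inl hUH
  · -- a character gives a subgroup of type μ
    obtain ⟨r, hr⟩ := S4128.result k (H) B ⟨M, inferInstance, ⟨BialgEquiv.refl k B⟩⟩ ψ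
      H66.Trigon2.injective_charMap J rfl hU
    have hrs : Function.Surjective r := fun b =>
      ⟨ψ b, congrArg (fun f : B →ₐc[k] B => f b) hr⟩
    haveI : Algebra.FiniteType k B := Algebra.FiniteType.of_surjective (r : H →ₐ[k] B) hrs
    haveI : Group.FG M := (MonoidAlgebra.finiteType_iff_group_fg (R := k)).1 inferInstance
    haveI : Module.Finite ℤ (Additive M) := Module.Finite.iff_addGroup_fg.2 inferInstance
    haveI : Nontrivial (Additive M) := inferInstance
    obtain ⟨N, hN⟩ : ∃ N : Submodule ℤ (Additive M), IsCoatom N := by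
      rcases IsCoatomic.eq_top_or_exists_le_coatom (⊥ : Submodule ℤ (Additive M)) with hb | ⟨N, hN, -⟩
      · exact absurd hb bot_ne_top
      · exact ⟨N, hN⟩
    have : IsSimpleModule ℤ (Additive M ⧸ N) := isSimpleModule_iff_isCoatom.2 hN
    obtain ⟨L, hL, ⟨e⟩⟩ := isSimpleModule_iff_quot_maximal.1 this
    obtain ⟨d, hd⟩ : ∃ d : ℤ, L = Ideal.span {d} :=
      ⟨_, (Submodule.IsPrincipal.span_singleton_generator L).symm⟩
    have hd0 : d ≠ 0 := by
      rintro rfl
      rw [Ideal.span_singleton_zero] at hd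
      exact Int.not_isField ((Ring.isField_iff_maximal_bot).2 (hd ▸ hL))
    have hp : d.natAbs.Prime :=
      Int.prime_iff_natAbs_prime.1 ((Ideal.span_singleton_prime hd0).1 (hd ▸ hL.isPrime))
    let f₀ : Additive M →+ ZMod d.natAbs :=
      ((Ideal.quotEquivOfEq hd).trans (Int.quotientSpanEquivZMod d)).toAddEquiv.toAddMonoidHom.comp
        ((e : (Additive M ⧸ N) →ₗ[ℤ] ℤ ⧸ L).toAddMonoidHom.comp N.mkQ.toAddMonoidHom)
    have hf₀ : Function.Surjective f₀ :=
      ((Ideal.quotEquivOfEq hd).trans (Int.quotientSpanEquivZMod d)).surjective.comp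
        (e.surjective.comp N.mkQ_surjective)
    let f : M →* Multiplicative (ZMod d.natAbs) := AddMonoidHom.toMultiplicativeRight f₀
    have hf : Function.Surjective f := fun y => by
      obtain ⟨x, hx⟩ := hf₀ y.toAdd
      exact ⟨x.toMul, congrArg Multiplicative.ofAdd hx⟩
    refine Or.inr ⟨d.natAbs, hp, (MonoidAlgebra.mapDomainBialgHom k f).comp r, ?_⟩
    have h2 : Function.Surjective (MonoidAlgebra.mapDomainBialgHom k f) := by
      intro x
      induction x using MonoidAlgebra.induction_linear with
      | zero => exact ⟨0, map_zero _⟩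
      | add p q hp hq =>
        obtain ⟨a, rfl⟩ := hp
        obtain ⟨b, rfl⟩ := hq
        exact ⟨a + b, map_add _ _ _⟩
      | single m c =>
        obtain ⟨n, rfl⟩ := hf m
        exact ⟨MonoidAlgebra.single n c, by simp⟩
    exact h2.comp hrs

/-- Without subgroups `μ_l` every point acts unipotently. -/
theorem isNilpotent_act_of_no_mu
    (h : ∀ n : ℕ, n.Prime → ¬ ∃ φ : A →ₐc[k] MonoidAlgebra k (Multiplicative (ZMod n)), Function.Surjective φ)
    (g : A →ₐ[k] k) (V : Type u) [AddCommGroup V] [Module k V] [HopfRep.Comod k A V] [Module.Finite k V] :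
    IsNilpotent (dact V g.toLinearMap - 1) := by
  classical
  let S : Set (A →ₐ[k] k) := {z | ∃ n : ℤ, z = (toConv g ^ n).ofConv}
  have hS : ConjRat.GalPts.IsStable S := fun σ z hz => by
    rwa [show (σ : k →ₐ[k] k).comp z = z from AlgHom.ext fun x => (σ : k →ₐ[k] k).commutes (z x)]
  let I := ConjRat.GalPts.vanish S
  haveI : I.IsHopfIdeal k := ConjRat.GalPts.isHopfIdeal_vanish hS ⟨0, by rw [zpow_zero]⟩
    (by rintro x ⟨n, rfl⟩ y ⟨m, rfl⟩; exact ⟨n + m, by rw [zpow_add]⟩)
    (by rintro x ⟨n, rfl⟩; exact ⟨-n, by rw [zpow_neg]⟩)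
  let π : A →ₐc[k] A ⧸ I := Bialgebra.Quotient.mkBialgHom (R := k) I
  haveI : Algebra.FiniteType k (A ⧸ I) :=
    Algebra.FiniteType.of_surjective (π : A →ₐ[k] A ⧸ I) Ideal.Quotient.mk_surjective
  let S' : Set (WithConv ((A ⧸ I) →ₐ[k] k)) := {z | ∃ n : ℤ, MultExt.pre π z = toConv g ^ n}
  have hex : ∀ n : ℤ, ∃ z ∈ S', MultExt.pre π z = toConv g ^ n := fun n => by
    have hn : ∀ a ∈ I, (toConv g ^ n).ofConv a = 0 := fun a ha => ConjRat.GalPts.mem_vanish.1 ha _ ⟨n, rfl⟩
    have e : MultExt.pre π (toConv (Ideal.Quotient.liftₐ I (toConv g ^ n).ofConv hn)) = toConv g ^ n :=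
      WithConv.ofConv_injective (AlgHom.ext fun a => rfl)
    exact ⟨_, ⟨n, e⟩, e⟩
  have hsep : ∀ w : A ⧸ I, (∀ z ∈ S', z.ofConv w = 0) → w = 0 := by
    intro w hw
    obtain ⟨a, rfl⟩ := Ideal.Quotient.mk_surjective w
    refine Ideal.Quotient.eq_zero_iff_mem.2 (ConjRat.GalPts.mem_vanish.2 ?_)
    rintro _ ⟨n, rfl⟩
    obtain ⟨z, hz, hzn⟩ := hex n
    rw [← hzn]
    exact hw z hz
  have hinj : Function.Injective (MultExt.pre π (R := k)) := fun F G hFG =>
    WithConv.ofConv_injective (Ideal.Quotient.algHom_ext k (congrArg WithConv.ofConv hFG))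
  haveI : Coalgebra.IsCocomm k (A ⧸ I) := isCocomm_of_separated S' hsep fun x ⟨n, hn⟩ y ⟨m, hm⟩ => hinj (by
    rw [map_mul, map_mul, hn, hm, ← zpow_add, ← zpow_add, add_comm])
  rcases isUnipotent_or_exists_mu (k := k) (H := A ⧸ I) with hUH | ⟨n, hn, φ, hφ⟩
  · obtain ⟨z, -, hz⟩ := hex 1
    rw [zpow_one] at hz
    letI := H66.Trigon.pushComod (π : A →ₗc[k] A ⧸ I) V
    have h1 := H66.UnipPoints.isNilpotent_dact_sub (V := V) hUH z.ofConv.toLinearMap (map_one z.ofConv)
    have h2 : dact V z.ofConv.toLinearMap = dact V g.toLinearMap := LinearMap.ext fun v => by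
      rw [H66.Trigon.dact_pushComod]
      exact congrArg (fun φ => dact V φ v) (congrArg AlgHom.toLinearMap (congrArg WithConv.ofConv hz))
    rwa [h2] at h1
  · exact absurd ⟨φ.comp π, hφ.comp Ideal.Quotient.mk_surjective⟩ (h n hn)

theorem apply_coeff {V : Type u} [AddCommGroup V] [Module k V] [HopfRep.Comod k A V] (φ : A →ₗ[k] k)
    (ψ : V →ₗ[k] k) (w : V) : φ (H66.Coeff.coeff (C := A) ψ w) = ψ (dact V φ w) := by
  rw [H66.Coeff.coeff_apply, dact_apply]
  induction HopfRep.Comod.coact (k := k) (A := A) w using TensorProduct.induction_on with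
  | zero => simp
  | add p q hp hq => simp only [map_add, hp, hq]
  | tmul p q => simp [mul_comm]

/-- Without subgroups `μ_l` the group is unipotent, in positive characteristic. -/
theorem isUnipotent_of_no_mu_charP (p : ℕ) [Fact p.Prime] [CharP k p]
    (h : ∀ n : ℕ, n.Prime → ¬ ∃ φ : A →ₐc[k] MonoidAlgebra k (Multiplicative (ZMod n)), Function.Surjective φ) :
    HopfRep.IsUnipotent k A := by
  classical
  have hA : LocNil k A := locNil_of_no_mu p (h p Fact.out)
  intro V _ _ _ hV hVn
  let W : Submodule k V :=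
    { carrier := {v | ∀ (ψ : V →ₗ[k] k) (n : ℕ),
        H66.Coeff.coeff (C := A) ψ v - algebraMap k A (ψ v) ∈ aug (k := k) (A := A) ^ n}
      add_mem' := fun {v w} hv hw ψ n => by
        rw [map_add, map_add, map_add, add_sub_add_comm]; exact add_mem (hv ψ n) (hw ψ n)
      zero_mem' := fun ψ n => by simp
      smul_mem' := fun c v hv ψ n => by
        rw [map_smul, map_smul, smul_eq_mul, map_mul, Algebra.smul_def, ← mul_sub]
        exact Ideal.mul_mem_left _ _ (hv ψ n) }
  obtain ⟨v₀, hv₀, hv₀W⟩ := exists_fixed_all_orders p (V := V) hA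
  haveI : Nontrivial W := ⟨⟨⟨v₀, hv₀W⟩, 0, fun e => hv₀ (congrArg Subtype.val e)⟩⟩
  have hstab : ∀ (g : WithConv (A →ₐ[k] k)), ∀ v ∈ W, dact V g.ofConv.toLinearMap v ∈ W := by
    intro g v hv ψ n
    let γ := g.ofConv
    let γ' : A →ₐ[k] k := γ.comp (HopfAlgebra.antipodeAlgHom k A)
    let R : A →ₐ[k] A := (Algebra.TensorProduct.lift ((Algebra.ofId k A).comp γ') (AlgHom.id k A)
      (fun _ _ => Commute.all _ _)).comp (Bialgebra.comulAlgHom k A)
    have hR : ∀ a, R a = H66.Coeff.coeff (C := A) γ'.toLinearMap a := by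
      intro a
      show Algebra.TensorProduct.lift ((Algebra.ofId k A).comp γ') (AlgHom.id k A) (fun _ _ => Commute.all _ _)
          (CoalgebraStruct.comul (R := k) a) =
        TensorProduct.lid k A (γ'.toLinearMap.rTensor A (CoalgebraStruct.comul (R := k) a))
      induction CoalgebraStruct.comul (R := k) a using TensorProduct.induction_on with
      | zero => simp
      | add p q hp hq => simp only [map_add, hp, hq]
      | tmul p q => simp [Algebra.smul_def]
    let T : A →ₐ[k] A := ((Algebra.TensorProduct.lift (AlgHom.id k A) ((Algebra.ofId k A).comp γ)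
      (fun _ _ => Commute.all _ _)).comp (Bialgebra.comulAlgHom k A)).comp R
    have hT : ∀ a, T a = inv γ.toLinearMap (R a) := by
      intro a
      show Algebra.TensorProduct.lift (AlgHom.id k A) ((Algebra.ofId k A).comp γ) (fun _ _ => Commute.all _ _)
          (CoalgebraStruct.comul (R := k) (R a)) =
        contract A γ.toLinearMap (CoalgebraStruct.comul (R := k) (R a))
      induction CoalgebraStruct.comul (R := k) (R a) using TensorProduct.induction_on with
      | zero => simp
      | add p q hp hq => simp only [map_add, hp, hq]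
      | tmul p q => simp [Algebra.smul_def, mul_comm]
    have hεT : ∀ a, ε (T a) = ε a := fun a => by
      rw [hT, counit_inv, hR, apply_coeff]
      show (γ'.toLinearMap ∘ₗ inv γ.toLinearMap) a = _
      rw [counit_comp_inv, (conv_antipode γ).2]
      rfl
    let ψ' : V →ₗ[k] k := ψ ∘ₗ dact V γ.toLinearMap
    have hcoef : H66.Coeff.coeff (C := A) ψ (dact V γ.toLinearMap v) = T (H66.Coeff.coeff (C := A) ψ' v) := by
      rw [hT, coeff_dact, hR]
      congr 1
      rw [H66.Coeff.coeff_comp (H66.Coeff.isComodHom_coeff (C := A) ψ')]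
      congr 2
      refine LinearMap.ext fun w => ?_
      show ψ w = γ' (H66.Coeff.coeff (C := A) ψ' w)
      rw [← AlgHom.toLinearMap_apply, apply_coeff]
      show _ = ψ (dact V γ.toLinearMap (dact V γ'.toLinearMap w))
      rw [dact_dact, (conv_antipode γ).1, dact_counit_apply]
    rw [hcoef, show ψ (dact V γ.toLinearMap v) = ψ' v from rfl, ← AlgHom.commutes T, ← map_sub]
    have hle : (aug (k := k) (A := A)).map T ≤ aug (k := k) (A := A) := Ideal.map_le_iff_le_comap.2 fun a ha =>
      mem_aug.2 ((hεT a).trans (mem_aug.1 ha))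
    refine Ideal.pow_right_mono hle n ?_
    rw [← Ideal.map_pow]
    exact Ideal.mem_map_of_mem _ (hv ψ' n)
  let ρ : WithConv (A →ₐ[k] k) →* Module.End k W :=
    { toFun := fun g => (dact V g.ofConv.toLinearMap).restrict (hstab g)
      map_one' := LinearMap.ext fun v => Subtype.ext (by
        show dact V _ (v : V) = v
        rw [show ((1 : WithConv (A →ₐ[k] k)).ofConv.toLinearMap) = CoalgebraStruct.counit (R := k) (A := A) from
          LinearMap.ext fun x => by simp, dact_counit_apply])
      map_mul' := fun g g' => LinearMap.ext fun v => Subtype.ext (by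
        show dact V _ (v : V) = dact V _ (dact V _ (v : V))
        rw [dact_dact]
        exact congrArg (fun φ => dact V φ (v : V))
          (congrArg WithConv.ofConv (H66.UnipPoints.toDual.map_mul g g'))) }
  obtain ⟨v, hv0, hv⟩ := H66.Kolchin.exists_fixed ρ fun g => by
    obtain ⟨N, hN⟩ := isNilpotent_act_of_no_mu h g.ofConv V
    refine ⟨N, LinearMap.ext fun x => Subtype.ext ?_⟩
    have : ∀ (j : ℕ) (x : W), (((ρ g - 1) ^ j) x : V) = ((dact V g.ofConv.toLinearMap - 1) ^ j) (x : V) := by
      intro j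
      induction j with
      | zero => intro x; rfl
      | succ j ih => intro x; rw [pow_succ', Module.End.mul_apply, pow_succ', Module.End.mul_apply, ← ih]; rfl
    rw [this, hN]
    rfl
  refine (Submodule.ne_bot_iff _).2 ⟨(v : V), mem_fixedPts_of_all_orders (fun e he _ hg => ?_) v.2,
    fun e => hv0 (Subtype.ext e)⟩
  have hnil : IsNilpotent e := Lib.Comod.Orbits2.isNilpotent_of_forall_pt (k := k) fun γ => hg γ fun ψ => by
    rw [← AlgHom.toLinearMap_apply, apply_coeff]
    exact congrArg ψ (congrArg Subtype.val (hv (toConv γ)))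
  obtain ⟨N, hN⟩ := hnil
  cases N with
  | zero => rw [pow_zero] at hN; exact (mul_one e).symm.trans (by rw [hN, mul_zero])
  | succ N => rwa [he.pow_succ_eq] at hN

end

end Groth.Agent.H66.PUnip
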