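import Groth.Agent.H66.Cot.InfDetect
import Mathlib

/-!
Powers of invariant derivations.
-/

set_option autoImplicit false
set_option linter.unusedSectionVars false
universe u

namespace Groth.Agent.H66.PUnip

open TensorProduct Groth.Agent.Lib.Comod.Basic Groth.Agent.H66.Cot

noncomputable section

variable {k : Type u} [Field k] {A : Type u} [CommRing A] [HopfAlgebra k A]

local notation "ε" => Bialgebra.counitAlgHom k A

/-- All tangent vectors act locally nilpotently on the regular functions. -/
def LocNil (k A : Type u) [Field k] [CommRing A] [HopfAlgebra k A] : Prop :=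
  ∀ τ : A →ₗ[k] k, IsTangent τ → ∀ a : A, ∃ n : ℕ, (inv τ ^ n : Module.End k A) a = 0

theorem counit_comp_inv (φ τ : A →ₗ[k] k) : φ ∘ₗ inv τ = conv φ τ := by
  refine LinearMap.ext fun a => ?_
  show φ (contract A τ (CoalgebraStruct.comul (R := k) a)) = LinearMap.mul' k k (TensorProduct.map φ τ _)
  induction CoalgebraStruct.comul (R := k) a using TensorProduct.induction_on with
  | zero => simp
  | add p q hp hq => simp only [map_add, hp, hq]
  | tmul p q => simp [mul_comm]

/-- The functional attached to a power of an invariant derivation. -/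
def powFun (τ : A →ₗ[k] k) (n : ℕ) : A →ₗ[k] k :=
  (ε).toLinearMap ∘ₗ (inv τ ^ n : Module.End k A)

theorem powFun_zero (τ : A →ₗ[k] k) : powFun τ 0 = CoalgebraStruct.counit (R := k) :=
  LinearMap.ext fun _ => rfl

theorem powFun_succ (τ : A →ₗ[k] k) (n : ℕ) : powFun τ (n + 1) = conv (powFun τ n) τ := by
  rw [← counit_comp_inv, powFun, powFun, pow_succ, Module.End.mul_eq_comp, LinearMap.comp_assoc]

theorem dact_pow (τ : A →ₗ[k] k) (n : ℕ) {V : Type u} [AddCommGroup V] [Module k V] [HopfRep.Comod k A V] :
    (dact V τ ^ n : Module.End k V) = dact V (powFun τ n) := by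
  induction n with
  | zero => rw [pow_zero, powFun_zero, dact_counit]; rfl
  | succ n ih =>
    refine LinearMap.ext fun v => ?_
    rw [pow_succ, Module.End.mul_apply, ih, dact_dact, powFun_succ]

theorem inv_pow (τ : A →ₗ[k] k) (n : ℕ) : (inv τ ^ n : Module.End k A) = inv (powFun τ n) :=
  dact_pow (V := A) τ n

/-- Powers of exponent a power of the characteristic of derivations are derivations. -/
theorem pow_char_pow_mul (p : ℕ) [Fact p.Prime] [CharP k p] (T : Module.End k A)
    (hT : ∀ a b, T (a * b) = a * T b + T a * b) (r : ℕ) (a b : A) :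
    (T ^ p ^ r) (a * b) = a * (T ^ p ^ r) b + (T ^ p ^ r) a * b := by
  haveI : Nontrivial A := (ε).toRingHom.domain_nontrivial
  let μ := LinearMap.mul' k A
  let R : Module.End k (A ⊗[k] A) := T.lTensor A
  let L : Module.End k (A ⊗[k] A) := T.rTensor A
  have h1 : ∀ z, T (μ z) = μ ((R + L) z) := by
    intro z
    induction z using TensorProduct.induction_on with
    | zero => simp
    | add x y hx hy => simp only [map_add, hx, hy]
    | tmul x y => simp [R, L, μ, hT]
  have h2 : ∀ n : ℕ, ∀ z, (T ^ n) (μ z) = μ (((R + L) ^ n) z) := by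
    intro n
    induction n with
    | zero => intro z; rfl
    | succ n ih =>
      intro z
      rw [pow_succ, pow_succ, Module.End.mul_apply, Module.End.mul_apply, h1, ih]
  have hinj : Function.Injective (algebraMap k (Module.End k (A ⊗[k] A))) := by
    intro c c' h
    have h' := congrArg (fun f : Module.End k (A ⊗[k] A) =>
      (ε (μ (f ((1 : A) ⊗ₜ[k] (1 : A)))))) h
    simpa [Module.algebraMap_end_apply, μ] using h'
  haveI : CharP (Module.End k (A ⊗[k] A)) p := charP_of_injective_algebraMap hinj p
  have hc : Commute R L := LinearMap.ext fun z => by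
    induction z using TensorProduct.induction_on with
    | zero => simp
    | add x y hx hy => simp only [map_add, hx, hy]
    | tmul x y => simp [R, L]
  have hR : ∀ n : ℕ, (R ^ n) (a ⊗ₜ[k] b) = a ⊗ₜ[k] (T ^ n) b := by
    intro n
    induction n with
    | zero => rfl
    | succ n ih =>
      rw [pow_succ', Module.End.mul_apply, ih, pow_succ' T, Module.End.mul_apply]
      rfl
  have hL : ∀ n : ℕ, (L ^ n) (a ⊗ₜ[k] b) = (T ^ n) a ⊗ₜ[k] b := by
    intro n
    induction n with
    | zero => rfl
    | succ n ih =>
      rw [pow_succ', Module.End.mul_apply, ih, pow_succ' T, Module.End.mul_apply]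
      rfl
  have h3 := h2 (p ^ r) (a ⊗ₜ[k] b)
  rw [add_pow_char_pow_of_commute p r hc, LinearMap.add_apply, hR, hL, map_add] at h3
  simpa [μ] using h3

theorem isTangent_powFun (p : ℕ) [Fact p.Prime] [CharP k p] {τ : A →ₗ[k] k} (hτ : IsTangent τ) (r : ℕ) :
    IsTangent (powFun τ (p ^ r)) := by
  intro a b
  show ε ((inv τ ^ p ^ r : Module.End k A) (a * b)) = _
  rw [pow_char_pow_mul p _ (fun x y => inv_mul τ hτ x y) r, map_add, map_mul, map_mul]
  rfl

theorem conv_sub_isTangent {σ τ : A →ₗ[k] k} (hσ : IsTangent σ) (hτ : IsTangent τ) :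
    IsTangent (conv σ τ - conv τ σ) := by
  intro a b
  rw [← counit_comp_inv, ← counit_comp_inv]
  simp only [LinearMap.sub_apply, LinearMap.comp_apply, inv_mul σ hσ, inv_mul τ hτ, map_add]
  simp only [hσ _ _, hτ _ _, counit_inv]
  ring

theorem tangent_one {τ : A →ₗ[k] k} (hτ : IsTangent τ) : τ 1 = 0 := by
  have h := hτ 1 1
  simpa using h

end

end Groth.Agent.H66.PUnip
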