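import Mathlib

/-!
Engel's theorem for spaces of nilpotent operators closed under commutators.
-/

set_option autoImplicit false
set_option linter.unusedSectionVars false
universe u

namespace Groth.Agent.H66.PUnip

noncomputable section

attribute [local instance] LieRing.ofAssociativeRing LieRingModule.ofAssociativeModule LieModule.ofAssociativeModule

variable {k : Type u} [Field k] {V : Type u} [AddCommGroup V] [Module k V]

theorem isNilpotent_lieModule (L : Submodule k (Module.End k V)) [Module.Finite k L]
    (hbr : ∀ x ∈ L, ∀ y ∈ L, x * y - y * x ∈ L) (hnil : ∀ x ∈ L, IsNilpotent x) :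
    LieModule.IsNilpotent ({ L with lie_mem' := fun {x y} hx hy => hbr x hx y hy } : LieSubalgebra k (Module.End k V)) V := by
  let H : LieSubalgebra k (Module.End k V) := { L with lie_mem' := fun {x y} hx hy => hbr x hx y hy }
  haveI : IsNoetherian k H := (isNoetherian_of_isNoetherianRing_of_finite k L : IsNoetherian k L)
  refine LieAlgebra.isEngelian_of_isNoetherian (R := k) (L := H) V fun x => ?_
  have : LieModule.toEnd k H V x = (x : Module.End k V) := LinearMap.ext fun v => rfl
  rw [this]
  exact hnil _ x.2

theorem exists_forall_apply_eq_zero [Module.Finite k V] [Nontrivial V] (L : Submodule k (Module.End k V))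
    (hbr : ∀ x ∈ L, ∀ y ∈ L, x * y - y * x ∈ L) (hnil : ∀ x ∈ L, IsNilpotent x) :
    ∃ v : V, v ≠ 0 ∧ ∀ x ∈ L, x v = 0 := by
  let H : LieSubalgebra k (Module.End k V) := { L with lie_mem' := fun {x y} hx hy => hbr x hx y hy }
  haveI : LieModule.IsNilpotent H V := isNilpotent_lieModule L hbr hnil
  haveI : Nontrivial (LieModule.maxTrivSubmodule k H V) := LieModule.nontrivial_max_triv_of_isNilpotent k H V
  obtain ⟨⟨v, hv⟩, hv0⟩ := exists_ne (0 : LieModule.maxTrivSubmodule k H V)
  refine ⟨v, fun h => hv0 (Subtype.ext h), fun x hx => ?_⟩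
  exact hv ⟨x, hx⟩

/-- An operator which is a combination, with scalar coefficients in an extension, of a space of nilpotent operators
closed under commutators is nilpotent. -/
theorem isNilpotent_comb {K : Type u} [Field K] [Algebra k K] [Module K V] [IsScalarTower k K V]
    (L : Submodule k (Module.End k V)) [Module.Finite k L] (hlin : ∀ x ∈ L, ∀ (c : K) (v : V), x (c • v) = c • x v)
    (hbr : ∀ x ∈ L, ∀ y ∈ L, x * y - y * x ∈ L) (hnil : ∀ x ∈ L, IsNilpotent x) {ι : Type*} (s : Finset ι)
    (c : ι → K) (T : ι → Module.End k V) (hT : ∀ i ∈ s, T i ∈ L) (y : Module.End K V)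
    (hy : ∀ v, y v = ∑ i ∈ s, c i • T i v) : IsNilpotent y := by
  let H : LieSubalgebra k (Module.End k V) := { L with lie_mem' := fun {x y} hx hy => hbr x hx y hy }
  haveI hN : LieModule.IsNilpotent H V := isNilpotent_lieModule L hbr hnil
  obtain ⟨n, hn⟩ := (LieModule.isNilpotent_iff k H V).1 hN
  refine ⟨n, LinearMap.ext fun v => ?_⟩
  have key : ∀ (j : ℕ) (d : K), d • (y ^ j) v ∈ LieModule.lowerCentralSeries k H V j := by
    intro j
    induction j with
    | zero => intro d; simp
    | succ j ih =>
      intro d
      rw [pow_succ', Module.End.mul_apply, hy, Finset.smul_sum, LieModule.lowerCentralSeries_succ]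
      refine Submodule.sum_mem _ fun i hi => ?_
      rw [smul_smul, ← hlin _ (hT i hi)]
      exact LieSubmodule.lie_mem_lie (LieSubmodule.mem_top (⟨T i, hT i hi⟩ : H)) (ih (d * c i))
  have := key n 1
  rw [hn, LieSubmodule.mem_bot, one_smul] at this
  rw [this, LinearMap.zero_apply]

end

end Groth.Agent.H66.PUnip
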