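import Groth.Agent.H66.Cot.Basic
import Mathlib

/-!
In a group of height one the functions killed by all invariant derivations are constant.
-/

set_option autoImplicit false
set_option linter.unusedSectionVars false
universe u

namespace Groth.Agent.H66.PUnip

open TensorProduct MvPolynomial Groth.Agent.H66.Cot

noncomputable section

variable {k : Type u} [Field k] {C : Type u} [CommRing C] [Bialgebra k C]

local notation "ε" => Bialgebra.counitAlgHom k C

theorem eq_const_of_heightOne [IsNoetherianRing C] (p : ℕ) [Fact p.Prime] [CharP k p]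
    (hC : ∀ x : C, ε x = 0 → x ^ p = 0) {f : C} (hf : ∀ τ : C →ₗ[k] k, IsTangent τ → inv τ f = 0) :
    f = algebraMap k C (ε f) := by
  classical
  let m := aug (k := k) (A := C)
  obtain ⟨N, hN⟩ : IsNilpotent m := (Ideal.FG.isNilpotent_iff_le_nilradical (IsNoetherian.noetherian m)).2
    fun x hx => ⟨p, hC x (mem_aug.1 hx)⟩
  let g := f - algebraMap k C (ε f)
  suffices h : ∀ n : ℕ, g ∈ m ^ n by
    have := h N
    rw [hN] at this
    exact sub_eq_zero.1 ((Submodule.mem_bot C).1 this)
  let bas := Module.Basis.ofVectorSpace k (C ⧸ low (k := k) (A := C))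
  intro n
  induction n with
  | zero => simp
  | succ n ih =>
    rcases Nat.eq_zero_or_pos n with rfl | hn
    · rw [zero_add, pow_one]; exact sub_counit_mem f
    obtain ⟨j, rfl⟩ : ∃ j, n = j + 1 := ⟨n - 1, by omega⟩
    obtain ⟨F, hF, hgF⟩ := aug_pow_le bas (j + 1) g ih
    -- discard the monomials with a large exponent
    let F' := ∑ d ∈ F.support.filter (fun d => ∀ i, d i < p), monomial d (coeff d F)
    have hev : ev bas F = ev bas F' := by
      conv_lhs => rw [F.as_sum]
      rw [map_sum, map_sum, ← Finset.sum_filter_add_sum_filter_not F.support (fun d => ∀ i, d i < p), add_eq_left]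
      refine Finset.sum_eq_zero fun d hd => ?_
      obtain ⟨i, hi⟩ := not_forall.1 (Finset.mem_filter.1 hd).2
      rw [ev, aeval_monomial]
      have hmem : i ∈ d.support := Finsupp.mem_support_iff.2 fun h0 => hi (by
        rw [h0]; exact (Fact.out : p.Prime).pos)
      rw [Finsupp.prod, Finset.prod_eq_zero hmem, mul_zero]
      rw [← Nat.sub_add_cancel (not_lt.1 hi), pow_add, hC _ (mem_aug.1 (par_mem bas i)), mul_zero]
    have hF' : F' ∈ linForms k _ ^ (j + 1) := by
      rw [linForms_pow] at hF ⊢
      refine Submodule.sum_mem _ fun d hd => ?_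
      exact isHomogeneous_monomial _ (by
        rw [Finsupp.degree_eq_weight_one]
        exact hF (mem_support_iff.1 (Finset.mem_filter.1 hd).1))
    have hgood : GoodExp F' := by
      intro d hd i a ha1 ha2 ha0
      have := support_sum hd
      rw [Finset.mem_biUnion] at this
      obtain ⟨e, he, hde⟩ := this
      rw [Finset.mem_singleton.1 (support_monomial_subset hde)] at ha2
      have := (Finset.mem_filter.1 he).2 i
      have := Nat.le_of_dvd ha1 ((CharP.cast_eq_zero_iff k p a).1 ha0)
      omega
    rw [hev] at hgF
    suffices hF0 : F' = 0 by rwa [hF0, map_zero, sub_zero] at hgF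
    have hd : ∀ i, pderiv i F' = 0 := fun i => by
      obtain ⟨h1, h2⟩ := pderiv_mem bas i j F' hF'
      refine eq_zero_of_ev_mem bas ⊥ bot_le (fun l b hb => ?_) j _ h1 (goodExp_pderiv hgood i)
        (Ideal.mem_sup_right ?_)
      · rw [(Submodule.mem_bot C).1 hb, map_zero]; exact zero_mem _
      · have h3 := inv_pow_mem (tau bas i) (isTangent_tau bas i) (j + 1) _ hgF
        rw [map_sub, map_sub, hf _ (isTangent_tau bas i), inv_algebraMap _ (isTangent_tau bas i), sub_zero,
          zero_sub, neg_mem_iff] at h3
        have h5 := sub_mem h3 h2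
        rwa [sub_sub_cancel] at h5
    ext d
    rw [MvPolynomial.coeff_zero]
    by_cases hd0 : d = 0
    · subst hd0
      exact constantCoeff_linForms j F' hF'
    obtain ⟨i, hi⟩ : ∃ i, d i ≠ 0 := by
      by_contra hcon
      push_neg at hcon
      exact hd0 (Finsupp.ext hcon)
    by_contra hne
    have h := congrArg (MvPolynomial.coeff (d - Finsupp.single i 1)) (hd i)
    rw [MvPolynomial.coeff_pderiv, MvPolynomial.coeff_zero] at h
    have hadd : d - Finsupp.single i 1 + Finsupp.single i 1 = d := by
      ext l
      by_cases hl : i = l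
      · subst hl; simp; omega
      · simp [Finsupp.single_eq_of_ne (Ne.symm hl)]
    rw [hadd] at h
    have hcast := hgood d (mem_support_iff.2 hne) i (d i) (Nat.one_le_iff_ne_zero.2 hi) le_rfl
    have e : ((d - Finsupp.single i 1 : _ →₀ ℕ) i : ℕ) + 1 = d i := by simp; omega
    rcases mul_eq_zero.1 h with h' | h'
    · exact hne h'
    · refine hcast ?_
      rw [← e]
      exact_mod_cast h'

end

end Groth.Agent.H66.PUnip
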