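import Groth.Agent.H66.PUnip.Basic
import Groth.Agent.H66.PUnip.HeightOne
import Groth.Agent.H66.ExactSeq
import Mathlib

/-!
The functions killed by all invariant derivations over a perfect field are the `p`-th powers; the kernels of the
iterated Frobenius.
-/

set_option autoImplicit false
set_option linter.unusedSectionVars false
set_option linter.style.haveILetI false
universe u

namespace Groth.Agent.H66.PUnip

open TensorProduct Groth.Agent.Lib.Comod.Basic Groth.Agent.H66.Cot

noncomputable section

variable {k : Type u} [Field k] {A : Type u} [CommRing A] [HopfAlgebra k A]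
variable (p : ℕ) [Fact p.Prime] [CharP k p]

local notation "ε" => Bialgebra.counitAlgHom k A

theorem charP_alg {R : Type u} [CommRing R] [Algebra k R] [Nontrivial R] : CharP R p :=
  charP_of_injective_algebraMap (algebraMap k R).injective p

theorem add_pow_q {R : Type u} [CommRing R] [Algebra k R] (r : ℕ) (x y : R) :
    (x + y) ^ p ^ r = x ^ p ^ r + y ^ p ^ r := by
  rcases subsingleton_or_nontrivial R with h | h
  · exact Subsingleton.elim _ _
  · haveI := charP_alg (k := k) (R := R) p
    exact add_pow_char_pow x y p r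

theorem sub_pow_q {R : Type u} [CommRing R] [Algebra k R] (r : ℕ) (x y : R) :
    (x - y) ^ p ^ r = x ^ p ^ r - y ^ p ^ r := by
  rw [eq_sub_iff_add_eq, ← add_pow_q (k := k) p r, sub_add_cancel]

theorem zero_pow_q {R : Type u} [CommRing R] (r : ℕ) : (0 : R) ^ p ^ r = 0 :=
  zero_pow (pow_ne_zero r (Fact.out : p.Prime).pos.ne')

variable [PerfectField k]

/-- The `q`-th root in the base field. -/
def rt (r : ℕ) (c : k) : k :=
  haveI : PerfectRing k p := PerfectField.toPerfectRing p
  (iterateFrobeniusEquiv k p r).symm c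

theorem rt_pow (r : ℕ) (c : k) : rt p r c ^ p ^ r = c := by
  haveI : PerfectRing k p := PerfectField.toPerfectRing p
  exact (iterateFrobeniusEquiv k p r).apply_symm_apply c

theorem pow_q_injective (r : ℕ) : Function.Injective fun c : k => c ^ p ^ r := fun a b h => by
  have h0 : (a - b) ^ p ^ r = 0 := by
    rw [sub_pow_q (k := k) p r]; exact sub_eq_zero.2 h
  exact sub_eq_zero.1 (eq_zero_of_pow_eq_zero h0)

/-- The root of a functional on the `q`-th powers. -/
def rootFun (σ : A →ₗ[k] k) (r : ℕ) : A →ₗ[k] k where
  toFun a := rt p r (σ (a ^ p ^ r))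
  map_add' a b := pow_q_injective p r (by
    show rt p r (σ ((a + b) ^ p ^ r)) ^ p ^ r = (rt p r (σ (a ^ p ^ r)) + rt p r (σ (b ^ p ^ r))) ^ p ^ r
    rw [rt_pow, add_pow_q (k := k) p r, map_add, add_pow_q (k := k) p r, rt_pow, rt_pow])
  map_smul' c a := pow_q_injective p r (by
    show rt p r (σ ((c • a) ^ p ^ r)) ^ p ^ r = (c • rt p r (σ (a ^ p ^ r))) ^ p ^ r
    rw [rt_pow, smul_pow, map_smul, smul_pow, rt_pow])

theorem rootFun_pow (σ : A →ₗ[k] k) (r : ℕ) (a : A) : rootFun p σ r a ^ p ^ r = σ (a ^ p ^ r) :=
  rt_pow p r _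

theorem inv_pow_q (σ : A →ₗ[k] k) (r : ℕ) (a : A) :
    inv σ (a ^ p ^ r) = inv (rootFun p σ r) a ^ p ^ r := by
  show contract A σ (CoalgebraStruct.comul (R := k) (a ^ p ^ r)) =
    contract A (rootFun p σ r) (CoalgebraStruct.comul (R := k) a) ^ p ^ r
  rw [Bialgebra.comul_pow]
  induction CoalgebraStruct.comul (R := k) a using TensorProduct.induction_on with
  | zero => rw [zero_pow_q, map_zero, map_zero, zero_pow_q]
  | add x y hx hy => rw [add_pow_q (k := k) p r, map_add, map_add, add_pow_q (k := k) p r, hx, hy]
  | tmul x y => rw [Algebra.TensorProduct.tmul_pow, contract_tmul, contract_tmul, smul_pow, rootFun_pow]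

/-- A functional which is a point derivation on the `q`-th powers. -/
def IsTangentQ (σ : A →ₗ[k] k) (r : ℕ) : Prop :=
  ∀ a b : A, σ (a ^ p ^ r * b ^ p ^ r) = ε (a ^ p ^ r) * σ (b ^ p ^ r) + σ (a ^ p ^ r) * ε (b ^ p ^ r)

theorem isTangent_rootFun {σ : A →ₗ[k] k} {r : ℕ} (hσ : IsTangentQ p σ r) : IsTangent (rootFun p σ r) :=
  fun a b => pow_q_injective p r (by
    show rootFun p σ r (a * b) ^ p ^ r = (ε a * rootFun p σ r b + rootFun p σ r a * ε b) ^ p ^ r
    rw [rootFun_pow, mul_pow, hσ, add_pow_q (k := k) p r, mul_pow, mul_pow, rootFun_pow, rootFun_pow, map_pow (ε) a, map_pow (ε) b])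

/-- A functional with prescribed root, on the functions killing the kernel of the Frobenius. -/
theorem exists_rootFun_eq (r : ℕ) (φ : A →ₗ[k] k) (hφ : ∀ x : A, x ^ p ^ r = 0 → φ x = 0) :
    ∃ σ : A →ₗ[k] k, ∀ a, σ (a ^ p ^ r) = φ a ^ p ^ r := by
  classical
  let S : Submodule k A :=
    { carrier := Set.range fun a : A => a ^ p ^ r
      add_mem' := by
        rintro _ _ ⟨a, rfl⟩ ⟨b, rfl⟩
        exact ⟨a + b, add_pow_q (k := k) p r a b⟩
      zero_mem' := ⟨0, zero_pow_q p r⟩
      smul_mem' := by
        rintro c _ ⟨a, rfl⟩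
        exact ⟨rt p r c • a, by show (rt p r c • a) ^ p ^ r = _; rw [smul_pow, rt_pow]⟩ }
  let g : S → A := fun s => s.2.choose
  have hg : ∀ s : S, g s ^ p ^ r = s := fun s => s.2.choose_spec
  have hwd : ∀ a b : A, a ^ p ^ r = b ^ p ^ r → φ a = φ b := fun a b h => by
    have := hφ (a - b) (by rw [sub_pow_q (k := k) p r, h, sub_self])
    rwa [map_sub, sub_eq_zero] at this
  let σ₀ : S →ₗ[k] k :=
    { toFun := fun s => φ (g s) ^ p ^ r
      map_add' := fun s t => by
        rw [hwd (g (s + t)) (g s + g t) (by rw [hg, add_pow_q (k := k) p r, hg, hg]; rfl), map_add,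
          add_pow_q (k := k) p r]
      map_smul' := fun c s => by
        rw [hwd (g (c • s)) (rt p r c • g s) (by rw [hg, smul_pow, rt_pow, hg]; rfl), map_smul, smul_eq_mul, mul_pow,
          rt_pow]
        rfl }
  obtain ⟨σ, hσ⟩ := LinearMap.exists_extend σ₀
  refine ⟨σ, fun a => ?_⟩
  have h := LinearMap.congr_fun hσ ⟨a ^ p ^ r, a, rfl⟩
  refine h.trans ?_
  show φ (g ⟨a ^ p ^ r, _⟩) ^ p ^ r = _
  rw [hwd _ a (hg ⟨a ^ p ^ r, a, rfl⟩)]

/-- The kernel of the iterated Frobenius. -/
def frobKer (k : Type u) [Field k] (A : Type u) [CommRing A] [HopfAlgebra k A] (p : ℕ) [Fact p.Prime] [CharP k p]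
    (r : ℕ) : Ideal A where
  carrier := {x | x ^ p ^ r = 0}
  add_mem' {x y} (hx hy) := by
    show (x + y) ^ p ^ r = 0
    rw [add_pow_q (k := k) p r, show x ^ p ^ r = 0 from hx, show y ^ p ^ r = 0 from hy, add_zero]
  zero_mem' := zero_pow_q p r
  smul_mem' c x hx := by
    show (c * x) ^ p ^ r = 0
    rw [mul_pow, show x ^ p ^ r = 0 from hx, mul_zero]

theorem mem_frobKer {r : ℕ} {x : A} : x ∈ frobKer k A p r ↔ x ^ p ^ r = 0 := Iff.rfl

theorem isHopfIdeal_frobKer (r : ℕ) : (frobKer k A p r).IsHopfIdeal k := by
  let I := frobKer k A p r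
  let q : A →ₗ[k] A ⧸ Submodule.restrictScalars k I := (Submodule.restrictScalars k I).mkQ
  have hq : ∀ x, q x = 0 ↔ x ^ p ^ r = 0 := fun x => by
    rw [show q x = Submodule.Quotient.mk x from rfl, Submodule.Quotient.mk_eq_zero]; rfl
  exact
    { counit_eq_zero := fun x hx => by
        have h := congrArg (ε) (show x ^ p ^ r = 0 from hx)
        rw [map_pow, map_zero] at h
        exact eq_zero_of_pow_eq_zero h
      map_mkQ_comul_eq_zero := fun x hx => ext_contract fun φ => by
        rw [map_zero]
        obtain ⟨σ, hσ⟩ := exists_rootFun_eq p r (φ ∘ₗ q) fun y hy => by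
          rw [LinearMap.comp_apply, (hq y).2 hy, map_zero]
        have hroot : rootFun p σ r = φ ∘ₗ q := LinearMap.ext fun a => pow_q_injective p r (by
          show rootFun p σ r a ^ p ^ r = _
          rw [rootFun_pow, hσ])
        have h1 : q (inv (φ ∘ₗ q) x) = 0 := (hq _).2 (by
          rw [← hroot, ← inv_pow_q, show x ^ p ^ r = 0 from hx, map_zero])
        refine Eq.trans ?_ h1
        show contract _ φ (TensorProduct.map q q (CoalgebraStruct.comul (R := k) x)) =
          q (contract A (φ ∘ₗ q) (CoalgebraStruct.comul (R := k) x))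
        induction CoalgebraStruct.comul (R := k) x using TensorProduct.induction_on with
        | zero => simp
        | add a b ha hb => simp only [map_add, ha, hb]
        | tmul a b => simp
      antipode_mem := fun x hx => by
        show HopfAlgebraStruct.antipode (R := k) x ^ p ^ r = 0
        rw [show HopfAlgebraStruct.antipode (R := k) x = HopfAlgebra.antipodeAlgHom k A x from rfl, ← map_pow,
          show x ^ p ^ r = 0 from hx, map_zero] }

/-- The subalgebra of the `p`-th powers. -/
def powSub (k : Type u) [Field k] [PerfectField k] (A : Type u) [CommRing A] [HopfAlgebra k A] (p : ℕ) [Fact p.Prime]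
    [CharP k p] : Subalgebra k A where
  carrier := Set.range fun a : A => a ^ p
  mul_mem' := by
    rintro _ _ ⟨a, rfl⟩ ⟨b, rfl⟩
    exact ⟨a * b, mul_pow a b p⟩
  one_mem' := ⟨1, one_pow p⟩
  add_mem' := by
    rintro _ _ ⟨a, rfl⟩ ⟨b, rfl⟩
    exact ⟨a + b, by simpa using add_pow_q (k := k) p 1 a b⟩
  zero_mem' := ⟨0, zero_pow (Fact.out : p.Prime).pos.ne'⟩
  algebraMap_mem' c := ⟨algebraMap k A (rt p 1 c), by
    show algebraMap k A (rt p 1 c) ^ p = _
    rw [← map_pow]
    congr 1
    simpa using rt_pow p 1 c⟩

variable [Algebra.FiniteType k A]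

/-- A function killed by all invariant derivations is a `p`-th power. -/
theorem exists_pow_eq {g : A} (hg : ∀ τ : A →ₗ[k] k, IsTangent τ → inv τ g = 0) : ∃ h : A, h ^ p = g := by
  classical
  haveI : IsNoetherianRing A := Algebra.FiniteType.isNoetherianRing k A
  let S := powSub k A p
  have hS : ∀ b ∈ S, CoalgebraStruct.comul (R := k) b ∈
      LinearMap.range (TensorProduct.map S.val.toLinearMap S.val.toLinearMap) := by
    rintro _ ⟨a, rfl⟩
    rw [Bialgebra.comul_pow]
    induction CoalgebraStruct.comul (R := k) a using TensorProduct.induction_on with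
    | zero => rw [zero_pow (Fact.out : p.Prime).pos.ne']; exact zero_mem _
    | add x y hx hy =>
      have := add_pow_q (k := k) (R := A ⊗[k] A) p 1 x y
      rw [pow_one] at this
      rw [this]
      exact add_mem hx hy
    | tmul x y =>
      rw [Algebra.TensorProduct.tmul_pow]
      exact ⟨(⟨x ^ p, x, rfl⟩ : S) ⊗ₜ[k] (⟨y ^ p, y, rfl⟩ : S), rfl⟩
  have hanti : ∀ b ∈ S, HopfAlgebraStruct.antipode (R := k) b ∈ S := by
    rintro _ ⟨a, rfl⟩
    exact ⟨HopfAlgebra.antipodeAlgHom k A a, (map_pow (HopfAlgebra.antipodeAlgHom k A) a p).symm⟩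
  haveI := H66.ExactSeq.faithfullyFlat_subalgebra S hS hanti
  let J : Ideal A := Ideal.span {a | a ∈ S ∧ CoalgebraStruct.counit (R := k) a = 0}
  let π : A →ₐ[k] A ⧸ J := Ideal.Quotient.mkₐ k J
  have hπp : ∀ x : A, π x ^ p = algebraMap k (A ⧸ J) (ε x ^ p) := fun x => by
    rw [← map_pow, ← AlgHom.commutes π]
    refine Ideal.Quotient.eq.2 (Ideal.subset_span ⟨S.sub_mem ⟨x, rfl⟩ (S.algebraMap_mem _), ?_⟩)
    show ε (x ^ p - algebraMap k A (ε x ^ p)) = 0
    rw [map_sub, map_pow, AlgHom.commutes]
    exact sub_self _
  have hJε : ∀ a ∈ J, ε a = 0 := fun a ha =>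
    (Ideal.span_le.2 fun b hb => hb.2 : J ≤ RingHom.ker (ε)) ha
  haveI : J.IsHopfIdeal k :=
    { counit_eq_zero := fun a ha => hJε a ha
      map_mkQ_comul_eq_zero := fun x hx => by
        let Φ : A →ₐ[k] (A ⧸ J) ⊗[k] (A ⧸ J) := (Algebra.TensorProduct.map π π).comp (Bialgebra.comulAlgHom k A)
        have hΦ : J ≤ RingHom.ker Φ := Ideal.span_le.2 fun b hb => by
          obtain ⟨⟨a, rfl⟩, hb⟩ := hb
          show Φ (a ^ p) = 0
          have hε0 : ε a = 0 := eq_zero_of_pow_eq_zero (n := p) (by
            rw [← map_pow]; exact hb)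
          rw [map_pow]
          have key : ∀ z : A ⊗[k] A, Algebra.TensorProduct.map π π z ^ p = algebraMap k _
              (Algebra.TensorProduct.lift (ε) (ε) (fun _ _ => Commute.all _ _) z ^ p) := by
            intro z
            induction z using TensorProduct.induction_on with
            | zero => simp [zero_pow (Fact.out : p.Prime).pos.ne']
            | add u v hu hv =>
              have h1 := add_pow_q (k := k) (R := (A ⧸ J) ⊗[k] (A ⧸ J)) p 1
              have h2 := add_pow_q (k := k) (R := k) p 1
              simp only [pow_one] at h1 h2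
              rw [map_add, map_add, h1, h2, map_add, hu, hv]
            | tmul u v =>
              rw [Algebra.TensorProduct.map_tmul, Algebra.TensorProduct.tmul_pow, hπp, hπp,
                Algebra.TensorProduct.lift_tmul, mul_pow, map_mul,
                ← AlgHom.commutes (Algebra.TensorProduct.includeLeft (R := k) (S := k) (A := A ⧸ J) (B := A ⧸ J)) (ε u ^ p),
                ← AlgHom.commutes (Algebra.TensorProduct.includeRight (R := k) (A := A ⧸ J) (B := A ⧸ J)) (ε v ^ p),
                Algebra.TensorProduct.includeLeft_apply, Algebra.TensorProduct.includeRight_apply,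
                Algebra.TensorProduct.tmul_mul_tmul, mul_one, one_mul]
          show Algebra.TensorProduct.map π π (CoalgebraStruct.comul (R := k) a) ^ p = 0
          rw [key]
          have h3 : Algebra.TensorProduct.lift (ε) (ε) (fun _ _ => Commute.all _ _)
              (CoalgebraStruct.comul (R := k) a) = ε a := by
            have h4 := congrArg (fun z => TensorProduct.lid k k ((CoalgebraStruct.counit (R := k) (A := A)).lTensor k z))
              (Coalgebra.rTensor_counit_comul (R := k) a)
            simp only [LinearMap.lTensor_tmul, TensorProduct.lid_tmul, one_smul] at h4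
            refine Eq.trans ?_ h4
            generalize CoalgebraStruct.comul (R := k) a = z
            induction z using TensorProduct.induction_on with
            | zero => simp
            | add u v hu hv => simp only [map_add, hu, hv]
            | tmul u v => simp
          rw [h3, hε0, zero_pow (Fact.out : p.Prime).pos.ne', map_zero]
        refine Eq.trans ?_ (hΦ hx)
        show _ = Algebra.TensorProduct.map π π (CoalgebraStruct.comul (R := k) x)
        generalize CoalgebraStruct.comul (R := k) x = z
        induction z using TensorProduct.induction_on with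
        | zero => rw [map_zero, map_zero]; rfl
        | add u v hu hv => rw [map_add, map_add, hu, hv]; rfl
        | tmul u v => rfl
      antipode_mem := fun x hx => by
        have : J ≤ J.comap (HopfAlgebra.antipodeAlgHom k A) := Ideal.span_le.2 fun b hb =>
          Ideal.subset_span ⟨hanti b hb.1, (HopfAlgebra.counit_antipode b).trans hb.2⟩
        exact this hx }
  let q : A →ₐc[k] A ⧸ J := Bialgebra.Quotient.mkBialgHom (R := k) J
  have hqc : g ∈ S := by
    refine H66.ExactSeq.mem_of_coinvariant S hS hanti π (le_of_eq Ideal.mk_ker) ?_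
    -- coinvariance, tested by functionals on the left
    refine (TensorProduct.comm k A (A ⧸ J)).injective (ext_contract fun φ => ?_)
    let c : A ⧸ J := TensorProduct.lid k (A ⧸ J) (φ.rTensor (A ⧸ J) (π.toLinearMap.lTensor A (CoalgebraStruct.comul (R := k) g)))
    have hcc : ∀ z, contract (A ⧸ J) φ (TensorProduct.comm k A (A ⧸ J) z) = TensorProduct.lid k (A ⧸ J) (φ.rTensor (A ⧸ J) z) := by
      intro z
      induction z using TensorProduct.induction_on with
      | zero => simp
      | add u v hu hv => simp only [map_add, hu, hv]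
      | tmul u v => simp
    have hc1 : c = algebraMap k (A ⧸ J) (Bialgebra.counitAlgHom k (A ⧸ J) c) := by
      refine eq_const_of_heightOne p (fun x hx => ?_) fun τ hτ => ?_
      · obtain ⟨a, rfl⟩ := Ideal.Quotient.mk_surjective x
        show π a ^ p = 0
        rw [hπp, show ε a = 0 from hx, zero_pow (Fact.out : p.Prime).pos.ne', map_zero]
      · have hc' : c = q (H66.Coeff.coeff (C := A) φ g) := by
          show c = π (TensorProduct.lid k A (φ.rTensor A (CoalgebraStruct.comul (R := k) g)))
          simp only [c]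
          generalize CoalgebraStruct.comul (R := k) g = z
          induction z using TensorProduct.induction_on with
          | zero => simp
          | add u v hu hv => simp only [map_add, hu, hv]
          | tmul u v => simp
        rw [hc', inv_eq_dact, H66.ExactSeq.map_dact_coalgHom,
          ← map_dact (H66.Coeff.isComodHom_coeff (C := A) φ)]
        have h0 : dact A (τ ∘ₗ (q : A →ₗc[k] A ⧸ J).toLinearMap) g = 0 := by
          refine hg _ fun a b => ?_
          show τ (q (a * b)) = _
          rw [map_mul, hτ]
          exact congrArg₂ (· + ·) (congrArg (· * _) (CoalgHomClass.counit_comp_apply q a))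
            (congrArg (_ * ·) (CoalgHomClass.counit_comp_apply q b))
        rw [h0, map_zero, map_zero]
    rw [hcc, hcc]
    refine hc1.trans ?_
    have h5 : Bialgebra.counitAlgHom k (A ⧸ J) c = φ g := by
      show CoalgebraStruct.counit (R := k) (TensorProduct.lid k (A ⧸ J) _) = φ g
      rw [← H66.Coeff.counit_coeff (C := A) φ g, H66.Coeff.coeff_apply]
      generalize CoalgebraStruct.comul (R := k) g = z
      induction z using TensorProduct.induction_on with
      | zero => simp
      | add u v hu hv => simp only [map_add, hu, hv]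
      | tmul u v =>
        simp only [LinearMap.lTensor_tmul, LinearMap.rTensor_tmul, TensorProduct.lid_tmul, map_smul]
        rfl
    rw [h5, LinearMap.rTensor_tmul, TensorProduct.lid_tmul, Algebra.algebraMap_eq_smul_one]
  exact hqc

end

end Groth.Agent.H66.PUnip
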