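import Groth.Agent.H66.PUnip.Frob
import Groth.Agent.H66.PUnip.Engel
import Mathlib

/-!
A connected group over an algebraically closed field of positive characteristic whose tangent vectors act locally
nilpotently is unipotent.
-/

set_option autoImplicit false
set_option linter.unusedSectionVars false
set_option linter.style.haveILetI false
universe u

namespace Groth.Agent.H66.PUnip

open TensorProduct Groth.Agent.Lib.Comod.Basic Groth.Agent.H66.Cot

noncomputable section

variable {k : Type u} [Field k] {A : Type u} [CommRing A] [HopfAlgebra k A]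
variable (p : ℕ) [Fact p.Prime] [CharP k p] [PerfectField k]
variable {V : Type u} [AddCommGroup V] [Module k V] [HopfRep.Comod k A V]

local notation "ε" => Bialgebra.counitAlgHom k A

/-- The vectors all whose coefficients are `q`-th powers. -/
def powVec (r : ℕ) : Submodule k V where
  carrier := {v | ∀ ψ : V →ₗ[k] k, ∃ a : A, a ^ p ^ r = H66.Coeff.coeff (C := A) ψ v}
  add_mem' {v w} (hv hw) ψ := by
    obtain ⟨a, ha⟩ := hv ψ
    obtain ⟨b, hb⟩ := hw ψ
    exact ⟨a + b, by rw [add_pow_q (k := k) p r, ha, hb, map_add]⟩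
  zero_mem' ψ := ⟨0, by rw [zero_pow_q, map_zero]⟩
  smul_mem' c v hv ψ := by
    obtain ⟨a, ha⟩ := hv ψ
    exact ⟨rt p r c • a, by rw [smul_pow, rt_pow, ha, map_smul]⟩

theorem mem_powVec {r : ℕ} {v : V} : v ∈ powVec (k := k) (A := A) p r ↔
    ∀ ψ : V →ₗ[k] k, ∃ a : A, a ^ p ^ r = H66.Coeff.coeff (C := A) ψ v := Iff.rfl

theorem powVec_antitone {r s : ℕ} (h : r ≤ s) : powVec (k := k) (A := A) (V := V) p s ≤ powVec (k := k) (A := A) (V := V) p r := fun v hv ψ => by
  obtain ⟨a, ha⟩ := hv ψ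
  refine ⟨a ^ p ^ (s - r), ?_⟩
  rw [← pow_mul, ← pow_add, Nat.sub_add_cancel h, ha]

theorem coeff_dact (σ : A →ₗ[k] k) (ψ : V →ₗ[k] k) (v : V) :
    H66.Coeff.coeff (C := A) ψ (dact V σ v) = inv σ (H66.Coeff.coeff (C := A) ψ v) :=
  map_dact (H66.Coeff.isComodHom_coeff (C := A) ψ) σ v

theorem eq_zero_of_coeff {v : V} (h : ∀ ψ : V →ₗ[k] k, H66.Coeff.coeff (C := A) ψ v = 0) : v = 0 :=
  (Module.forall_dual_apply_eq_zero_iff k v).1 fun ψ => by
    rw [← H66.Coeff.counit_coeff (C := A) ψ v, h, map_zero]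

theorem isTangentQ_bracket {σ τ : A →ₗ[k] k} {r : ℕ} (hσ : IsTangentQ p σ r) (hτ : IsTangentQ p τ r) :
    IsTangentQ p (conv σ τ - conv τ σ) r := by
  intro a b
  have key : ∀ {φ : A →ₗ[k] k}, IsTangentQ p φ r → inv φ (a ^ p ^ r * b ^ p ^ r) =
      a ^ p ^ r * inv φ (b ^ p ^ r) + inv φ (a ^ p ^ r) * b ^ p ^ r := fun {φ} hφ => by
    rw [← mul_pow, inv_pow_q, inv_mul _ (isTangent_rootFun p hφ), add_pow_q (k := k) p r, mul_pow, mul_pow,
      ← inv_pow_q, ← inv_pow_q]
  rw [← counit_comp_inv, ← counit_comp_inv]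
  simp only [LinearMap.sub_apply, LinearMap.comp_apply, key hσ, key hτ, map_add]
  simp only [inv_pow_q p σ r, inv_pow_q p τ r, hσ _ _, hτ _ _]
  simp only [← inv_pow_q p σ r, ← inv_pow_q p τ r, counit_inv]
  ring

variable [Algebra.FiniteType k A] [Module.Finite k V]

theorem powVec_succ_ne_bot (hA : LocNil k A) {r : ℕ} (hr : powVec (k := k) (A := A) (V := V) p r ≠ ⊥) :
    powVec (k := k) (A := A) (V := V) p (r + 1) ≠ ⊥ := by
  classical
  let W : Submodule k V := powVec (k := k) (A := A) (V := V) p r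
  haveI : Nontrivial W := Submodule.nontrivial_iff_ne_bot.2 hr
  let L : Submodule k (Module.End k W) :=
    { carrier := {x | ∃ σ : A →ₗ[k] k, IsTangentQ p σ r ∧ ∀ v : W, (x v : V) = dact V σ v}
      add_mem' := by
        rintro x y ⟨σ, hσ, hx⟩ ⟨τ, hτ, hy⟩
        refine ⟨σ + τ, fun a b => ?_, fun v => ?_⟩
        · simp only [LinearMap.add_apply, hσ a b, hτ a b]; ring
        · rw [dact_add, LinearMap.add_apply, LinearMap.add_apply, Submodule.coe_add, hx, hy]
      zero_mem' := ⟨0, fun a b => by simp, fun v => by simp [dact, contract]⟩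
      smul_mem' := by
        rintro c x ⟨σ, hσ, hx⟩
        refine ⟨c • σ, fun a b => ?_, fun v => ?_⟩
        · simp only [LinearMap.smul_apply, hσ a b, smul_eq_mul]; ring
        · rw [dact_smul, LinearMap.smul_apply, LinearMap.smul_apply, Submodule.coe_smul, hx] }
  have hbr : ∀ x ∈ L, ∀ y ∈ L, x * y - y * x ∈ L := by
    rintro x ⟨σ, hσ, hx⟩ y ⟨τ, hτ, hy⟩
    refine ⟨conv σ τ - conv τ σ, isTangentQ_bracket p hσ hτ, fun v => ?_⟩
    rw [LinearMap.sub_apply, Submodule.coe_sub, Module.End.mul_apply, Module.End.mul_apply, hx, hy, hy, hx,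
      dact_dact, dact_dact]
    exact (map_sub (dactAt V (v : V)) _ _).symm
  have hnil : ∀ x ∈ L, IsNilpotent x := by
    rintro x ⟨σ, hσ, hx⟩
    refine (Module.End.isNilpotent_iff_of_finite).2 fun v => ?_
    have hpow : ∀ (n : ℕ) (ψ : V →ₗ[k] k) (a : A), a ^ p ^ r = H66.Coeff.coeff (C := A) ψ (v : V) →
        H66.Coeff.coeff (C := A) ψ ((x ^ n) v : V) = (inv (rootFun p σ r) ^ n : Module.End k A) a ^ p ^ r := by
      intro n
      induction n with
      | zero => intro ψ a ha; exact ha.symm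
      | succ n ih =>
        intro ψ a ha
        rw [pow_succ', Module.End.mul_apply, hx, coeff_dact, ih ψ a ha, inv_pow_q p σ r, pow_succ' (inv _),
          Module.End.mul_apply]
    let b := Module.finBasis k V
    choose a ha using fun i => v.2 (b.coord i)
    choose n hn using fun i => hA _ (isTangent_rootFun p hσ) (a i)
    refine ⟨Finset.univ.sup n, Subtype.ext (b.ext_elem fun i => ?_)⟩
    rw [Submodule.coe_zero, map_zero, Finsupp.zero_apply, ← Module.Basis.coord_apply,
      ← H66.Coeff.counit_coeff (C := A) (b.coord i), hpow _ _ _ (ha i)]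
    obtain ⟨m, hm⟩ := Nat.exists_eq_add_of_le (Finset.le_sup (Finset.mem_univ i) : n i ≤ Finset.univ.sup n)
    rw [hm, add_comm, pow_add, Module.End.mul_apply, hn, map_zero, zero_pow_q, map_zero]
  obtain ⟨v, hv0, hv⟩ := exists_forall_apply_eq_zero L hbr hnil
  refine (Submodule.ne_bot_iff _).2 ⟨(v : V), fun ψ => ?_, fun h => hv0 (Subtype.ext h)⟩
  obtain ⟨a, ha⟩ := v.2 ψ
  haveI := isHopfIdeal_frobKer (k := k) (A := A) p r
  let I := frobKer k A p r
  let π : A →ₐc[k] A ⧸ I := Bialgebra.Quotient.mkBialgHom (R := k) I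
  haveI : Algebra.FiniteType k (A ⧸ I) :=
    Algebra.FiniteType.of_surjective (π : A →ₐ[k] A ⧸ I) Ideal.Quotient.mk_surjective
  have hmk : ∀ x, π x = 0 ↔ x ^ p ^ r = 0 := fun x => Ideal.Quotient.eq_zero_iff_mem
  obtain ⟨h, hh⟩ := exists_pow_eq (k := k) p (g := π a) fun τ hτ => by
    let τA : A →ₗ[k] k := τ ∘ₗ (π : A →ₗc[k] A ⧸ I).toLinearMap
    have hτA : IsTangent τA := fun x y => by
      show τ (π (x * y)) = _
      rw [map_mul, hτ]
      exact congrArg₂ (· + ·) (congrArg (· * _) (CoalgHomClass.counit_comp_apply π x))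
        (congrArg (_ * ·) (CoalgHomClass.counit_comp_apply π y))
    obtain ⟨σ, hσ⟩ := exists_rootFun_eq p r τA fun x hx => by
      show τ (π x) = 0
      rw [(hmk x).2 hx, map_zero]
    have hσt : IsTangentQ p σ r := fun x y => by
      rw [← mul_pow, hσ, hτA, add_pow_q (k := k) p r, mul_pow, mul_pow, ← hσ, ← hσ, map_pow (ε) x, map_pow (ε) y]
    have hroot : rootFun p σ r = τA := LinearMap.ext fun x => pow_q_injective p r (by
      show rootFun p σ r x ^ p ^ r = τA x ^ p ^ r
      rw [rootFun_pow, hσ])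
    have hpres : ∀ w ∈ W, dact V σ w ∈ W := fun w hw φ => by
      obtain ⟨c, hc⟩ := hw φ
      exact ⟨inv (rootFun p σ r) c, by rw [coeff_dact, ← hc, inv_pow_q p σ r]⟩
    have h0 : dact V σ (v : V) = 0 :=
      congrArg Subtype.val (hv ((dact V σ).restrict hpres) ⟨σ, hσt, fun w => rfl⟩)
    rw [inv_eq_dact, H66.ExactSeq.map_dact_coalgHom]
    refine (hmk _).2 ?_
    show inv τA a ^ p ^ r = 0
    rw [← hroot, ← inv_pow_q p σ r, ha, ← coeff_dact, h0, map_zero]
  obtain ⟨h', rfl⟩ := Ideal.Quotient.mk_surjective h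
  refine ⟨h', ?_⟩
  have h1 : (h' ^ p - a) ^ p ^ r = 0 := (hmk _).1 (by
    rw [map_sub, map_pow]; exact sub_eq_zero.2 hh)
  rw [sub_pow_q (k := k) p r, sub_eq_zero, ← pow_mul] at h1
  rw [← ha, pow_succ', h1]

include p in
/-- Some non zero vector is fixed to all orders. -/
theorem exists_fixed_all_orders (hA : LocNil k A) [Nontrivial V] :
    ∃ v : V, v ≠ 0 ∧ ∀ (ψ : V →ₗ[k] k) (n : ℕ),
      H66.Coeff.coeff (C := A) ψ v - algebraMap k A (ψ v) ∈ aug (k := k) (A := A) ^ n := by
  classical
  have hne : ∀ r, powVec (k := k) (A := A) (V := V) p r ≠ ⊥ := by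
    intro r
    induction r with
    | zero =>
      obtain ⟨v, hv⟩ := exists_ne (0 : V)
      refine (Submodule.ne_bot_iff _).2 ⟨v, fun ψ => ⟨H66.Coeff.coeff (C := A) ψ v, ?_⟩, hv⟩
      rw [pow_zero, pow_one]
    | succ r ih => exact powVec_succ_ne_bot p hA ih
  have hex : ∃ d, ∃ r, Module.finrank k (powVec (k := k) (A := A) (V := V) p r) = d := ⟨_, 0, rfl⟩
  obtain ⟨r, hr⟩ := Nat.find_spec hex
  obtain ⟨v, hv, hv0⟩ := Submodule.exists_mem_ne_zero_of_ne_bot (hne r)
  refine ⟨v, hv0, fun ψ n => ?_⟩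
  have hs : powVec (k := k) (A := A) (V := V) p (r + n) = powVec p r :=
    Submodule.eq_of_le_of_finrank_le (powVec_antitone p (Nat.le_add_right r n))
      (le_of_eq_of_le hr (Nat.find_min' hex ⟨r + n, rfl⟩))
  obtain ⟨a, ha⟩ := (hs.symm ▸ hv : v ∈ powVec (k := k) (A := A) p (r + n)) ψ
  have hψ : ψ v = ε a ^ p ^ (r + n) := by
    rw [← H66.Coeff.counit_coeff (C := A) ψ v, ← ha, ← map_pow]
    rfl
  rw [← ha, hψ, map_pow, ← sub_pow_q (k := k) p (r + n)]
  exact Ideal.pow_le_pow_right ((Nat.lt_pow_self (Fact.out : p.Prime).one_lt).le.trans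
      (Nat.pow_le_pow_right (Fact.out : p.Prime).pos (Nat.le_add_left n r)))
    (Ideal.pow_mem_pow (sub_counit_mem a) _)

theorem point_fixes {g : A →ₐ[k] k} {v : V}
    (h : ∀ ψ : V →ₗ[k] k, g (H66.Coeff.coeff (C := A) ψ v) = ψ v) : dact V g.toLinearMap v = v := by
  refine sub_eq_zero.1 ((Module.forall_dual_apply_eq_zero_iff k _).1 fun ψ => ?_)
  rw [map_sub, sub_eq_zero, ← h ψ, ← H66.Coeff.counit_coeff (C := A) ψ (dact V _ v), coeff_dact]
  exact counit_inv g.toLinearMap _

theorem conv_antipode (g : A →ₐ[k] k) :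
    conv g.toLinearMap (g.comp (HopfAlgebra.antipodeAlgHom k A)).toLinearMap = CoalgebraStruct.counit (R := k) ∧
      conv (g.comp (HopfAlgebra.antipodeAlgHom k A)).toLinearMap g.toLinearMap = CoalgebraStruct.counit (R := k) := by
  constructor <;> refine LinearMap.ext fun a => ?_
  · have h := congrArg g (HopfAlgebra.mul_antipode_lTensor_comul_apply (R := k) a)
    rw [AlgHom.commutes] at h
    refine Eq.trans ?_ h
    show LinearMap.mul' k k (TensorProduct.map _ _ (CoalgebraStruct.comul (R := k) a)) = _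
    induction CoalgebraStruct.comul (R := k) a using TensorProduct.induction_on with
    | zero => simp
    | add x y hx hy => simp only [map_add, hx, hy]
    | tmul x y => simp [map_mul]
  · have h := congrArg g (HopfAlgebra.mul_antipode_rTensor_comul_apply (R := k) a)
    rw [AlgHom.commutes] at h
    refine Eq.trans ?_ h
    show LinearMap.mul' k k (TensorProduct.map _ _ (CoalgebraStruct.comul (R := k) a)) = _
    induction CoalgebraStruct.comul (R := k) a using TensorProduct.induction_on with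
    | zero => simp
    | add x y hx hy => simp only [map_add, hx, hy]
    | tmul x y => simp [map_mul]

/-- The translation by a point is multiplicative. -/
theorem inv_point_mul (g : A →ₐ[k] k) (x y : A) :
    inv g.toLinearMap (x * y) = inv g.toLinearMap x * inv g.toLinearMap y := by
  have h : ∀ z, inv g.toLinearMap z =
      Algebra.TensorProduct.lift (AlgHom.id k A) ((Algebra.ofId k A).comp g) (fun _ _ => Commute.all _ _)
        (Bialgebra.comulAlgHom k A z) := fun z => by
    show contract A g.toLinearMap (CoalgebraStruct.comul (R := k) z) = _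
    rw [Bialgebra.comulAlgHom_apply]
    induction CoalgebraStruct.comul (R := k) z using TensorProduct.induction_on with
    | zero => simp
    | add a b ha hb => simp only [map_add, ha, hb]
    | tmul a b => simp [Algebra.smul_def, mul_comm]
  simp only [h, map_mul]

/-- A vector fixed to all orders is fixed, as soon as the only idempotent which vanishes at the neutral point and at
every point fixing the vector is zero. -/
theorem mem_fixedPts_of_all_orders [IsAlgClosed k] {v : V}
    (hidem : ∀ e : A, IsIdempotentElem e → ε e = 0 →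
      (∀ g : A →ₐ[k] k, (∀ ψ : V →ₗ[k] k, g (H66.Coeff.coeff (C := A) ψ v) = ψ v) → g e = 0) → e = 0)
    (hv : ∀ (ψ : V →ₗ[k] k) (n : ℕ),
      H66.Coeff.coeff (C := A) ψ v - algebraMap k A (ψ v) ∈ aug (k := k) (A := A) ^ n) :
    v ∈ HopfRep.fixedPts k A V := by
  classical
  haveI : IsNoetherianRing A := Algebra.FiniteType.isNoetherianRing k A
  let b := Module.finBasis k V
  let z : Fin (Module.finrank k V) → A := fun i =>
    H66.Coeff.coeff (C := A) (b.coord i) v - algebraMap k A (b.coord i v)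
  have hK : ∀ i, ∃ w : A, ε w = 1 ∧ w * z i = 0 := fun i => by
    obtain ⟨⟨r, hr⟩, hrx⟩ := (Ideal.mem_iInf_smul_pow_eq_bot_iff (aug (k := k) (A := A)) (z i)).1 (by
      rw [Submodule.mem_iInf]; intro n; rw [smul_eq_mul, Ideal.mul_top]; exact hv _ n)
    exact ⟨1 - r, by rw [map_sub, map_one, mem_aug.1 hr, sub_zero], by
      rw [sub_mul, one_mul, sub_eq_zero]; exact hrx.symm⟩
  choose w hw1 hw using hK
  let u := ∏ i, w i
  have hu1 : ε u = 1 := by rw [map_prod, Finset.prod_eq_one fun i _ => hw1 i]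
  have huz : ∀ i, u * z i = 0 := fun i => by
    show (∏ j, w j) * z i = 0
    rw [← Finset.prod_erase_mul _ _ (Finset.mem_univ i), mul_assoc, hw, mul_zero]
  let 𝔞 : Ideal A := ⨅ i, LinearMap.ker (LinearMap.mulRight A (z i))
  have h𝔞 : ∀ x, x ∈ 𝔞 ↔ ∀ i, x * z i = 0 := fun x => by simp [𝔞]
  let 𝔟 : Ideal A := Ideal.span (Set.range z)
  have htop : 𝔞 ⊔ 𝔟 = ⊤ := by
    by_contra hne
    obtain ⟨m, hm, hle⟩ := Ideal.exists_le_maximal _ hne
    letI := Ideal.Quotient.field m
    haveI : Module.Finite k (A ⧸ m) := finite_of_finite_type_of_isJacobsonRing k (A ⧸ m)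
    have hbij : Function.Bijective (Algebra.ofId k (A ⧸ m)) :=
      IsAlgClosed.algebraMap_bijective_of_isIntegral (k := k)
    let g : A →ₐ[k] k := (AlgEquiv.ofBijective (Algebra.ofId k (A ⧸ m)) hbij).symm.toAlgHom.comp (Ideal.Quotient.mkₐ k m)
    have hgm : ∀ x ∈ m, g x = 0 := fun x hx => by
      show (AlgEquiv.ofBijective _ hbij).symm (Ideal.Quotient.mk m x) = 0
      rw [Ideal.Quotient.eq_zero_iff_mem.2 hx, map_zero]
    have hgi : ∀ i, g (H66.Coeff.coeff (C := A) (b.coord i) v) = b.coord i v := fun i => by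
      have := hgm (z i) (hle (Ideal.mem_sup_right (Ideal.subset_span ⟨i, rfl⟩)))
      rwa [map_sub, AlgHom.commutes, sub_eq_zero] at this
    have hgψ : ∀ ψ : V →ₗ[k] k, g (H66.Coeff.coeff (C := A) ψ v) = ψ v := fun ψ => by
      let F : (V →ₗ[k] k) →ₗ[k] k :=
        { toFun := fun φ => g (H66.Coeff.coeff (C := A) φ v) - φ v
          map_add' := fun φ φ' => by
            simp only [H66.Coeff.coeff_apply, LinearMap.rTensor_add, LinearMap.add_apply, map_add]; ring
          map_smul' := fun c φ => by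
            simp only [H66.Coeff.coeff_apply, LinearMap.rTensor_smul, LinearMap.smul_apply, map_smul,
              RingHom.id_apply, smul_sub] }
      have : F = 0 := b.dualBasis.ext fun i => by
        rw [Module.Basis.coe_dualBasis, LinearMap.zero_apply]
        exact sub_eq_zero.2 (hgi i)
      exact sub_eq_zero.1 (LinearMap.congr_fun this ψ)
    have hfix := point_fixes hgψ
    let g' : A →ₐ[k] k := g.comp (HopfAlgebra.antipodeAlgHom k A)
    have hfix' : dact V g'.toLinearMap v = v := by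
      conv_lhs => rw [← hfix]
      rw [dact_dact, (conv_antipode g).2, dact_counit_apply]
    have hc : ∀ c : k, inv g'.toLinearMap (algebraMap k A c) = algebraMap k A c := fun c => by
      rw [Algebra.algebraMap_eq_smul_one, map_smul]
      congr 1
      show contract A g'.toLinearMap (CoalgebraStruct.comul (R := k) (1 : A)) = 1
      rw [Bialgebra.comul_one, Algebra.TensorProduct.one_def, contract_tmul]
      simp
    have hinvz : ∀ i, inv g'.toLinearMap (z i) = z i := fun i => by
      show inv g'.toLinearMap (H66.Coeff.coeff (C := A) (b.coord i) v - algebraMap k A (b.coord i v)) =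
        H66.Coeff.coeff (C := A) (b.coord i) v - algebraMap k A (b.coord i v)
      rw [map_sub, ← coeff_dact, hfix', hc]
    have hu' : inv g'.toLinearMap u ∈ 𝔞 := (h𝔞 _).2 fun i => by
      rw [← hinvz i, ← inv_point_mul, huz, map_zero]
    have h1 : g (inv g'.toLinearMap u) = 1 := by
      rw [← AlgHom.toLinearMap_apply, ← counit_inv g.toLinearMap, inv_eq_dact, inv_eq_dact, dact_dact,
        (conv_antipode g).1, dact_counit_apply, hu1]
    rw [hgm _ (hle (Ideal.mem_sup_left hu'))] at h1
    exact zero_ne_one h1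
  obtain ⟨x, hx, y, hy, hxy⟩ := Submodule.mem_sup.1 (show (1 : A) ∈ 𝔞 ⊔ 𝔟 by rw [htop]; trivial)
  have hxy0 : x * y = 0 := by
    have : 𝔟 ≤ LinearMap.ker (LinearMap.mulLeft A x) := Ideal.span_le.2 (by
      rintro _ ⟨i, rfl⟩; exact (h𝔞 x).1 hx i)
    exact this hy
  have hyy : IsIdempotentElem y := by
    show y * y = y
    linear_combination (y : A) * hxy - hxy0
  have hεy : ε y = 0 := by
    have : 𝔟 ≤ RingHom.ker (ε) := Ideal.span_le.2 (by
      rintro _ ⟨i, rfl⟩
      exact mem_aug.1 (pow_one (aug (k := k) (A := A)) ▸ hv (b.coord i) 1))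
    exact this hy
  have hy0 : y = 0 := hidem y hyy hεy fun g hg => by
    have : 𝔟 ≤ RingHom.ker g := Ideal.span_le.2 (by
      rintro _ ⟨i, rfl⟩
      show g (z i) = 0
      rw [map_sub, AlgHom.commutes, hg]
      exact sub_self _)
    exact this hy
  have hz : ∀ i, z i = 0 := fun i => by
    rw [hy0, add_zero] at hxy
    have := (h𝔞 x).1 hx i
    rwa [hxy, one_mul] at this
  refine (Lib.Comod.Reynolds.mem_fixedPts_iff).2 fun φ => sub_eq_zero.1 (b.ext_elem fun i => ?_)
  rw [map_zero, Finsupp.zero_apply, ← Module.Basis.coord_apply, map_sub, map_smul, smul_eq_mul,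
    ← H66.Coeff.counit_coeff (C := A) (b.coord i) (dact V φ v), coeff_dact, sub_eq_zero]
  refine (counit_inv φ _).trans ?_
  rw [sub_eq_zero.1 (hz i), Algebra.algebraMap_eq_smul_one, map_smul, smul_eq_mul, mul_comm]

include p in
/-- The infinitesimal criterion of unipotence. -/
theorem isUnipotent_of_locNil [IsAlgClosed k] (hconn : ∀ e : A, IsIdempotentElem e → e = 0 ∨ e = 1)
    (hA : LocNil k A) : HopfRep.IsUnipotent k A := by
  intro W _ _ _ hW hWn
  obtain ⟨v, hv0, hv⟩ := exists_fixed_all_orders p (V := W) hA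
  exact (Submodule.ne_bot_iff _).2 ⟨v, mem_fixedPts_of_all_orders (fun e he h0 _ => (hconn e he).resolve_right fun h1 => by
    rw [h1, map_one] at h0; exact one_ne_zero h0) hv, hv0⟩

end

end Groth.Agent.H66.PUnip
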