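import Groth.Agent.H66.PUnip.Tangent
import Mathlib

/-!
A tangent vector which is not nilpotent yields a subgroup isomorphic to `μ_p`.
-/

set_option autoImplicit false
set_option linter.unusedSectionVars false
set_option linter.style.haveILetI false
universe u

namespace Groth.Agent.H66.PUnip

open TensorProduct Polynomial Groth.Agent.Lib.Comod.Basic Groth.Agent.H66.Cot

noncomputable section

/-- The recursion for the coefficients of a vector fixed by a semilinear map. -/
def recPoly {k : Type u} [Field k] (p : ℕ) (a : ℕ → k) : ℕ → k[X]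
  | 0 => C (a 0) * X ^ p
  | i + 1 => recPoly p a i ^ p + C (a (i + 1)) * X ^ p

/-- A bijective `p`-semilinear endomorphism over an algebraically closed field has a non zero fixed vector. -/
theorem exists_fixed_semilinear {k : Type u} [Field k] [IsAlgClosed k] (p : ℕ) [Fact p.Prime] [CharP k p]
    {W : Type u} [AddCommGroup W] [Module k W] [Module.Finite k W] [Nontrivial W] (F : W →+ W)
    (hF : ∀ (c : k) (w : W), F (c • w) = c ^ p • F w) (hinj : Function.Injective F) : ∃ w : W, w ≠ 0 ∧ F w = w := by
  classical
  obtain ⟨w, hw⟩ := exists_ne (0 : W)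
  let v : ℕ → W := fun i => F^[i] w
  have hv : ∀ i, F (v i) = v (i + 1) := fun i => (Function.iterate_succ_apply' F i w).symm
  have hsum : ∀ (m : ℕ) (c : Fin m → k), F (∑ i, c i • v i) = ∑ i : Fin m, c i ^ p • v (i + 1) := fun m c => by
    simp [map_sum, hF, hv]
  have hex : ∃ m, ¬ LinearIndependent k fun i : Fin m => v i := ⟨Module.finrank k W + 1, fun h => by
    have := h.fintype_card_le_finrank
    simp at this⟩
  obtain ⟨m, hm, hmin⟩ : ∃ m, ¬ LinearIndependent k (fun i : Fin m => v i) ∧
      ∀ j < m, LinearIndependent k fun i : Fin j => v i :=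
    ⟨Nat.find hex, Nat.find_spec hex, fun j hj => not_not.1 (Nat.find_min hex hj)⟩
  obtain ⟨n, rfl⟩ : ∃ n, m = n + 1 := ⟨m - 1, by
    rcases Nat.eq_zero_or_pos m with rfl | h
    · exact absurd linearIndependent_empty_type hm
    · omega⟩
  have hli := hmin n (Nat.lt_succ_self n)
  have hspan : v n ∈ Submodule.span k (Set.range fun i : Fin n => v i) := by
    by_contra hns
    refine hm ?_
    have : (fun i : Fin (n + 1) => v i) = Fin.snoc (fun i : Fin n => v i) (v n) := by
      funext i
      refine Fin.lastCases ?_ (fun j => ?_) i <;> simp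
    rw [this, linearIndependent_fin_snoc]
    exact ⟨hli, hns⟩
  obtain ⟨c, hc⟩ := (Submodule.mem_span_range_iff_exists_fun k).1 hspan
  obtain ⟨n, rfl⟩ : ∃ j, n = j + 1 := ⟨n - 1, by
    rcases Nat.eq_zero_or_pos n with rfl | h
    · refine absurd ?_ hw
      show v 0 = 0
      rw [← hc]; simp
    · omega⟩
  haveI : PerfectRing k p := PerfectField.toPerfectRing p
  have hc0 : c 0 ≠ 0 := by
    intro h0
    let d : Fin n → k := fun i => (frobeniusEquiv k p).symm (c i.succ)
    have hd : ∀ i, d i ^ p = c i.succ := fun i => (frobeniusEquiv k p).apply_symm_apply _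
    have h1 : v n = ∑ i, d i • v i := hinj (by
      rw [hv, hsum]
      simp only [hd]
      rw [← hc, Fin.sum_univ_succ, h0, zero_smul, zero_add]
      rfl)
    have h2 := hli
    rw [linearIndependent_iff'] at h2
    let e : Fin (n + 1) → k := Fin.snoc (fun i => d i) (-1)
    have h3 := h2 Finset.univ e (by
      rw [Fin.sum_univ_castSucc]
      simp [e, ← h1]) (Fin.last n) (Finset.mem_univ _)
    simp [e] at h3
  let a : ℕ → k := fun i => if h : i < n + 1 then c ⟨i, h⟩ else 0
  have ha : ∀ i : Fin (n + 1), a i = c i := fun i => dif_pos i.isLt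
  have hdeg : ∀ i, (recPoly p a i).natDegree = p ^ (i + 1) := by
    intro i
    induction i with
    | zero =>
      rw [recPoly, natDegree_C_mul_X_pow p (a 0) (by rw [show a 0 = c 0 from ha 0]; exact hc0), zero_add, pow_one]
    | succ i ih =>
      rw [recPoly, natDegree_add_eq_left_of_natDegree_lt]
      · rw [natDegree_pow, ih, ← pow_succ']
      · rw [natDegree_pow, ih]
        refine lt_of_le_of_lt (natDegree_C_mul_X_pow_le _ _) ?_
        have hp := (Fact.out : p.Prime).one_lt
        calc p = p * 1 := (mul_one p).symm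
          _ < p * p ^ (i + 1) := Nat.mul_lt_mul_of_pos_left (Nat.one_lt_pow (Nat.succ_ne_zero i) hp) (by omega)
  have hder : ∀ i, derivative (recPoly p a i) = 0 := by
    intro i
    have hp0 : (C (p : k) : k[X]) = 0 := by rw [CharP.cast_eq_zero, C_0]
    cases i with
    | zero => simp [recPoly, derivative_X_pow, hp0]
    | succ i => simp [recPoly, derivative_pow, derivative_X_pow, hp0, CharP.cast_eq_zero]
  let Q := recPoly p a n - X
  have hQdeg : Q.natDegree = p ^ (n + 1) := by
    rw [natDegree_sub_eq_left_of_natDegree_lt, hdeg]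
    rw [natDegree_X, hdeg]
    exact Nat.one_lt_pow (Nat.succ_ne_zero n) (Fact.out : p.Prime).one_lt
  have hQsep : Q.Separable := by
    rw [separable_def, derivative_sub, hder, derivative_X, zero_sub]
    exact (isCoprime_one_right : IsCoprime Q 1).neg_right
  have hcard : Q.roots.card = p ^ (n + 1) := by
    rw [← hQdeg, ← (IsAlgClosed.splits Q).natDegree_eq_card_roots]
  obtain ⟨t, ht, ht0⟩ : ∃ t, t ∈ Q.roots ∧ t ≠ 0 := by
    by_contra! hall
    have h1 : Q.roots.card ≤ ({0} : Multiset k).card :=
      Multiset.card_le_card ((Multiset.le_iff_subset (nodup_roots hQsep)).2 fun x hx => by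
        rw [Multiset.mem_singleton]; exact hall x hx)
    rw [hcard, Multiset.card_singleton] at h1
    have h2 : 1 < p ^ (n + 1) := Nat.one_lt_pow (Nat.succ_ne_zero n) (Fact.out : p.Prime).one_lt
    omega
  have hbn : (recPoly p a n).eval t = t := by
    have := isRoot_of_mem_roots ht
    simpa [Q, IsRoot, sub_eq_zero] using this
  let β : Fin (n + 1) → k := fun i => (recPoly p a i).eval t
  have hlast : β (Fin.last n) = t := hbn
  refine ⟨∑ i, β i • v i, fun h => ht0 ?_, ?_⟩
  · rw [← hlast]
    exact linearIndependent_iff'.1 hli Finset.univ β h _ (Finset.mem_univ _)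
  · rw [hsum]
    have e1 : ∑ i : Fin (n + 1), β i ^ p • v (i + 1) =
        (∑ i : Fin n, β i.castSucc ^ p • v (i + 1)) + t ^ p • v (n + 1) := by
      rw [Fin.sum_univ_castSucc, hlast]
      simp
    have e2 : ∑ i, β i • v i = (∑ i : Fin n, β i.castSucc ^ p • v (i + 1)) + t ^ p • ∑ i, c i • v i := by
      rw [Fin.sum_univ_succ, Finset.smul_sum]
      conv_rhs => rw [Fin.sum_univ_succ (n := n)]
      rw [← add_assoc, add_comm (∑ i : Fin n, β i.castSucc ^ p • v (i + 1)), add_assoc, ← Finset.sum_add_distrib]
      congr 1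
      · rw [smul_smul]
        congr 1
        simp only [β, Fin.val_zero, recPoly, eval_mul, eval_C, eval_pow, eval_X]
        rw [show a 0 = c 0 from ha 0, mul_comm]
      · refine Finset.sum_congr rfl fun i _ => ?_
        rw [smul_smul, Fin.val_succ, ← add_smul]
        congr 1
        show (recPoly p a (i + 1)).eval t = _
        rw [recPoly, eval_add, eval_pow, eval_mul, eval_C, eval_pow, eval_X,
          show a ((i : ℕ) + 1) = c i.succ from ha i.succ, mul_comm (c i.succ)]
        rfl
    rw [e1, e2, hc]

/-- A semilinear endomorphism whose image spans is injective. -/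
theorem injective_semilinear {k : Type u} [Field k] (p : ℕ) {W : Type u} [AddCommGroup W] [Module k W]
    [Module.Finite k W] (F : W →+ W) (hF : ∀ (c : k) (w : W), F (c • w) = c ^ p • F w)
    (hspan : ⊤ ≤ Submodule.span k (Set.range F)) : Function.Injective F := by
  let b := Module.finBasis k W
  have hFb : ∀ w, F w = ∑ i, b.repr w i ^ p • F (b i) := fun w => by
    conv_lhs => rw [← b.sum_repr w, map_sum]
    exact Finset.sum_congr rfl fun i _ => hF _ _
  have hspan' : ⊤ ≤ Submodule.span k (Set.range fun i => F (b i)) := by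
    refine hspan.trans (Submodule.span_le.2 ?_)
    rintro _ ⟨w, rfl⟩
    rw [hFb]
    exact Submodule.sum_mem _ fun i _ => Submodule.smul_mem _ _ (Submodule.subset_span ⟨i, rfl⟩)
  have hli := linearIndependent_of_top_le_span_of_card_eq_finrank hspan' (by simp)
  refine (injective_iff_map_eq_zero F).2 fun w hw => b.ext_elem fun i => ?_
  rw [hFb] at hw
  rw [map_zero, Finsupp.zero_apply]
  exact eq_zero_of_pow_eq_zero (linearIndependent_iff'.1 hli Finset.univ _ hw i (Finset.mem_univ i))

variable {k : Type u} [Field k] {A : Type u} [CommRing A] [HopfAlgebra k A]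

theorem inv_add' (φ ψ : A →ₗ[k] k) : inv (φ + ψ) = inv φ + inv ψ := dact_add A φ ψ

theorem inv_smul' (c : k) (φ : A →ₗ[k] k) : inv (c • φ) = c • inv φ := dact_smul A c φ

/-- The idempotent polynomial of an element of the prime field. -/
def idemPoly (k : Type u) [Field k] (p : ℕ) (i : ZMod p) : k[X] := 1 - (X - C (i.cast : k)) ^ (p - 1)

/-- A toral tangent vector gives a subgroup isomorphic to `μ_p`. -/
theorem exists_mu_of_toral (p : ℕ) [Fact p.Prime] [CharP k p] {σ : A →ₗ[k] k} (hσ : IsTangent σ)
    (hfix : (inv σ ^ p : Module.End k A) = inv σ) (hne : inv σ ≠ 0) :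
    ∃ φ : A →ₐc[k] MonoidAlgebra k (Multiplicative (ZMod p)), Function.Surjective φ := by
  classical
  let y : Module.End k A := inv σ
  let ι : ZMod p →+* k := ZMod.castHom dvd_rfl k
  have hιc : ∀ i : ZMod p, (i.cast : k) = ι i := fun i => rfl
  have hιinj : Function.Injective ι := ι.injective
  have hp1 : 1 ≤ p - 1 := by have := (Fact.out : p.Prime).two_le; omega
  have hιp : ∀ i, ι i ^ p = ι i := fun i => by rw [← map_pow, ZMod.pow_card]
  let e : ZMod p → Module.End k A := fun i => aeval y (idemPoly k p i)
  have heval : ∀ i j : ZMod p, (idemPoly k p i).eval (ι j) = if j = i then 1 else 0 := fun i j => by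
    rw [idemPoly, eval_sub, eval_one, eval_pow, eval_sub, eval_X, eval_C, hιc, ← map_sub, ← map_pow]
    split_ifs with h
    · subst h; rw [sub_self, zero_pow (by omega), map_zero, sub_zero]
    · rw [ZMod.pow_card_sub_one_eq_one (sub_ne_zero.2 h), map_one, sub_self]
  have hsum : ∑ i, idemPoly k p i = 1 := by
    refine eq_of_natDegree_lt_card_of_eval_eq _ _ hιinj (fun j => ?_) ?_
    · rw [eval_finset_sum, eval_one]
      simp [heval]
    · rw [natDegree_one, ZMod.card]
      refine max_lt (lt_of_le_of_lt (natDegree_sum_le_of_forall_le _ _ fun i _ => ?_)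
        (Nat.sub_lt (Fact.out : p.Prime).pos one_pos)) (Fact.out : p.Prime).pos
      refine (natDegree_sub_le _ _).trans (max_le (by simp) ?_)
      rw [natDegree_pow, natDegree_X_sub_C, mul_one]
  have hmul : ∀ i, (X - C (ι i)) * idemPoly k p i = X - X ^ p := fun i => by
    rw [idemPoly, hιc, mul_sub, mul_one, ← pow_succ', Nat.sub_add_cancel (Fact.out : p.Prime).one_le,
      sub_pow_char, ← C_pow, hιp]
    ring
  have hye : ∀ i a, y (e i a) = ι i • e i a := fun i a => by
    have h := congrArg (fun T : Module.End k A => T a) (congrArg (aeval y) (hmul i))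
    simp only [map_mul, map_sub, aeval_X, aeval_C, map_pow, LinearMap.sub_apply, Module.End.mul_apply,
      Module.algebraMap_end_apply] at h
    rw [show (y ^ p) a = y a from LinearMap.congr_fun hfix a, sub_self, sub_eq_zero] at h
    exact h
  have hdec : ∀ a, ∑ i, e i a = a := fun a => by
    have h := congrArg (fun T : Module.End k A => T a) (congrArg (aeval y) hsum)
    simpa [map_sum] using h
  have heig : ∀ (P : k[X]) (c : k) (v : A), y v = c • v → aeval y P v = P.eval c • v := fun P c v hv => by
    induction P using Polynomial.induction_on with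
    | C r => simp [Module.algebraMap_end_apply]
    | add P Q hP hQ => simp only [map_add, LinearMap.add_apply, eval_add, add_smul, hP, hQ]
    | monomial n r hn =>
      rw [show C r * X ^ (n + 1) = C r * X ^ n * X by rw [pow_succ, mul_assoc], map_mul, Module.End.mul_apply,
        aeval_X, hv, map_smul, hn, eval_mul (q := X), eval_X, smul_smul, mul_comm c]
  have hee : ∀ i j a, e j (e i a) = if i = j then e i a else 0 := fun i j a => by
    rw [show e j (e i a) = _ from heig _ _ _ (hye i a), heval]
    split_ifs <;> simp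
  have hone : ∀ i, e i 1 = if 0 = i then 1 else 0 := fun i => by
    have h : y 1 = ι 0 • (1 : A) := by
      rw [map_zero, zero_smul, ← map_one (algebraMap k A)]
      exact inv_algebraMap σ hσ 1
    rw [show e i 1 = _ from heig _ _ _ h, heval]
    split_ifs <;> simp
  have hmulAB : ∀ n a b, e n (a * b) = ∑ i, e i a * e (n - i) b := fun n a b => by
    have hym : ∀ i j, y (e i a * e j b) = ι (i + j) • (e i a * e j b) := fun i j => by
      rw [show y (e i a * e j b) = _ from inv_mul σ hσ _ _, hye, hye, map_add, add_smul, mul_smul_comm,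
        smul_mul_assoc]
      exact add_comm _ _
    conv_lhs => rw [← hdec a, ← hdec b, Finset.sum_mul_sum]
    simp only [map_sum]
    refine Finset.sum_congr rfl fun i _ => ?_
    rw [Finset.sum_eq_single (n - i)]
    · rw [show e n (e i a * e (n - i) b) = _ from heig _ _ _ (hym i _), heval, if_pos (by ring), one_smul]
    · intro j _ hj
      rw [show e n (e i a * e j b) = _ from heig _ _ _ (hym i j), heval, if_neg ?_, zero_smul]
      exact fun h => hj (by rw [← h]; ring)
    · simp
  let f : ZMod p → (A →ₗ[k] k) := fun i => (Bialgebra.counitAlgHom k A).toLinearMap ∘ₗ e i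
  have hpoly : ∀ P : k[X], inv ((Bialgebra.counitAlgHom k A).toLinearMap ∘ₗ (aeval y P : Module.End k A)) = aeval y P := by
    intro P
    induction P using Polynomial.induction_on' with
    | add P Q hP hQ => rw [map_add, LinearMap.comp_add, inv_add', hP, hQ]
    | monomial n r =>
      rw [aeval_monomial, ← Algebra.smul_def, LinearMap.comp_smul, inv_smul',
        show (Bialgebra.counitAlgHom k A).toLinearMap ∘ₗ (y ^ n) = powFun σ n from rfl, ← inv_pow]
  have hfe : ∀ i, inv (f i) = e i := fun i => hpoly _
  let φ : A →ₐ[k] MonoidAlgebra k (Multiplicative (ZMod p)) := AlgHom.ofLinearMap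
    (∑ i, (f i).smulRight (MonoidAlgebra.single (Multiplicative.ofAdd i) (1 : k)))
    (by
      simp only [LinearMap.sum_apply, LinearMap.smulRight_apply]
      rw [Finset.sum_eq_single 0]
      · show Bialgebra.counitAlgHom k A (e 0 1) • _ = _
        rw [hone, if_pos rfl, map_one, one_smul, ofAdd_zero, MonoidAlgebra.one_def]
      · intro i _ hi
        show Bialgebra.counitAlgHom k A (e i 1) • _ = _
        rw [hone, if_neg (Ne.symm hi), map_zero, zero_smul]
      · simp)
    (fun a b => by
      simp only [LinearMap.sum_apply, LinearMap.smulRight_apply, Finset.sum_mul_sum]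
      have : ∀ n, f n (a * b) = ∑ i, f i a * f (n - i) b := fun n => by
        show Bialgebra.counitAlgHom k A (e n (a * b)) = _
        rw [hmulAB, map_sum]
        exact Finset.sum_congr rfl fun i _ => map_mul _ _ _
      simp only [this, Finset.sum_smul]
      rw [Finset.sum_comm]
      refine Finset.sum_congr rfl fun i _ => ?_
      refine Fintype.sum_equiv (Equiv.subRight i) _ _ fun n => ?_
      rw [smul_mul_smul_comm, MonoidAlgebra.single_mul_single, one_mul, ← ofAdd_add, Equiv.subRight_apply,
        add_sub_cancel])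
  have hφ : ∀ a, φ a = ∑ i, f i a • MonoidAlgebra.single (Multiplicative.ofAdd i) (1 : k) := fun a => by
    simp [φ]
  have hG : ∀ i : ZMod p, IsGroupLikeElem k (MonoidAlgebra.single (Multiplicative.ofAdd i) (1 : k)) :=
    fun i => MonoidAlgebra.isGroupLikeElem_single_one _
  let Φ : A →ₐc[k] MonoidAlgebra k (Multiplicative (ZMod p)) := BialgHom.ofAlgHom φ
    (AlgHom.ext fun a => by
      show CoalgebraStruct.counit (R := k) (φ a) = Bialgebra.counitAlgHom k A a
      rw [hφ, map_sum]
      conv_rhs => rw [← hdec a, map_sum]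
      refine Finset.sum_congr rfl fun i _ => ?_
      rw [map_smul, (hG i).counit_eq_one, smul_eq_mul, mul_one]
      rfl)
    (AlgHom.ext fun a => by
      show Algebra.TensorProduct.map φ φ (CoalgebraStruct.comul (R := k) a) = CoalgebraStruct.comul (R := k) (φ a)
      have hz : ∀ z : A ⊗[k] A, Algebra.TensorProduct.map φ φ z =
          ∑ i, ∑ j, LinearMap.mul' k k (TensorProduct.map (f i) (f j) z) •
            (MonoidAlgebra.single (Multiplicative.ofAdd i) (1 : k) ⊗ₜ[k]
              MonoidAlgebra.single (Multiplicative.ofAdd j) (1 : k)) := by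
        intro z
        induction z using TensorProduct.induction_on with
        | zero => simp
        | add u v hu hv => simp only [map_add, hu, hv, add_smul, Finset.sum_add_distrib]
        | tmul u v =>
          rw [Algebra.TensorProduct.map_tmul, hφ, hφ, TensorProduct.sum_tmul]
          refine Finset.sum_congr rfl fun i _ => ?_
          rw [TensorProduct.tmul_sum]
          refine Finset.sum_congr rfl fun j _ => ?_
          rw [TensorProduct.map_tmul, LinearMap.mul'_apply, TensorProduct.smul_tmul_smul]
      rw [hz, hφ, map_sum]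
      refine Finset.sum_congr rfl fun i _ => ?_
      rw [map_smul, (hG i).comul_eq_tmul_self]
      have hij : ∀ j, LinearMap.mul' k k (TensorProduct.map (f i) (f j) (CoalgebraStruct.comul (R := k) a)) =
          if j = i then f i a else 0 := fun j => by
        show conv (f i) (f j) a = _
        rw [← counit_comp_inv, LinearMap.comp_apply, hfe]
        show Bialgebra.counitAlgHom k A (e i (e j a)) = _
        rw [hee]
        split_ifs with h
        · subst h; rfl
        · exact map_zero _
      simp only [hij]
      simp [ite_smul])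
  refine ⟨Φ, ?_⟩
  obtain ⟨i₀, hi₀, hne₀⟩ : ∃ i₀, i₀ ≠ 0 ∧ e i₀ ≠ 0 := by
    by_contra! hall
    refine hne (LinearMap.ext fun a => ?_)
    show y a = 0
    rw [← hdec a, map_sum]
    refine Finset.sum_eq_zero fun i _ => ?_
    rw [hye]
    rcases eq_or_ne i 0 with rfl | h
    · rw [map_zero, zero_smul]
    · rw [hall i h, LinearMap.zero_apply, smul_zero]
  obtain ⟨a, ha⟩ : ∃ a, f i₀ a ≠ 0 := by
    by_contra! hall
    refine hne₀ ?_
    rw [← hfe, show f i₀ = 0 from LinearMap.ext hall]
    exact LinearMap.ext fun x => by simp [inv, Groth.Agent.Lib.Comod.Basic.contract]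
  have hmem : MonoidAlgebra.single (Multiplicative.ofAdd i₀) (1 : k) ∈ φ.range := by
    refine ⟨(f i₀ a)⁻¹ • e i₀ a, ?_⟩
    rw [AlgHom.toRingHom_eq_coe]
    show φ _ = _
    rw [map_smul, hφ, Finset.sum_eq_single i₀]
    · rw [show f i₀ (e i₀ a) = f i₀ a from by
        show Bialgebra.counitAlgHom k A (e i₀ (e i₀ a)) = _
        rw [hee, if_pos rfl]; rfl, smul_smul, inv_mul_cancel₀ ha, one_smul]
    · intro j _ hj
      rw [show f j (e i₀ a) = 0 from by
        show Bialgebra.counitAlgHom k A (e j (e i₀ a)) = _
        rw [hee, if_neg (Ne.symm hj), map_zero], zero_smul]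
    · simp
  intro x
  suffices x ∈ φ.range from this
  induction x using MonoidAlgebra.induction_on with
  | of g =>
    have hg : g = Multiplicative.ofAdd i₀ ^ (g.toAdd * i₀⁻¹).val := by
      rw [← ofAdd_nsmul, nsmul_eq_mul, ZMod.natCast_val, ZMod.cast_id, mul_assoc, inv_mul_cancel₀ hi₀, mul_one,
        ofAdd_toAdd]
    rw [hg, map_pow]
    exact pow_mem hmem _
  | add u v hu hv => exact add_mem hu hv
  | smul r u hu => exact Subalgebra.smul_mem _ hu r

/-- Without subgroups isomorphic to `μ_p` all tangent vectors act locally nilpotently. -/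
theorem locNil_of_no_mu [IsAlgClosed k] [Algebra.FiniteType k A] (p : ℕ) [Fact p.Prime] [CharP k p]
    (h : ¬ ∃ φ : A →ₐc[k] MonoidAlgebra k (Multiplicative (ZMod p)), Function.Surjective φ) : LocNil k A := by
  classical
  intro τ hτ a
  by_contra! hnil
  haveI : IsNoetherianRing A := Algebra.FiniteType.isNoetherianRing k A
  haveI := tangents_finite (k := k) (A := A)
  haveI : PerfectRing k p := PerfectField.toPerfectRing p
  let T : Module.End k A := inv τ
  let invL : tangents k A →ₗ[k] Module.End k A :=
    { toFun := fun σ => inv σ.1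
      map_add' := fun σ σ' => inv_add' _ _
      map_smul' := fun c σ => inv_smul' _ _ }
  let Wr : ℕ → Submodule k (Module.End k A) := fun R => Submodule.span k {x | ∃ r, R ≤ r ∧ x = T ^ p ^ r}
  have hWle : ∀ R, Wr R ≤ LinearMap.range invL := fun R => Submodule.span_le.2 (by
    rintro _ ⟨r, -, rfl⟩
    exact ⟨⟨_, isTangent_powFun p hτ r⟩, (inv_pow τ _).symm⟩)
  haveI : IsNoetherian k (tangents k A) := isNoetherian_of_isNoetherianRing_of_finite k (tangents k A)
  haveI : IsNoetherian k (LinearMap.range invL) := isNoetherian_range invL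
  haveI : ∀ R, Module.Finite k (Wr R) := fun R =>
    Module.Finite.of_injective (Submodule.inclusion (hWle R)) (Submodule.inclusion_injective _)
  have hex : ∃ d, ∃ R, Module.finrank k (Wr R) = d := ⟨_, 0, rfl⟩
  obtain ⟨R, hR⟩ := Nat.find_spec hex
  have hstab : Wr (R + 1) = Wr R :=
    Submodule.eq_of_le_of_finrank_le (Submodule.span_mono (by rintro _ ⟨r, hr, rfl⟩; exact ⟨r, by omega, rfl⟩))
      (le_of_eq_of_le hR (Nat.find_min' hex ⟨R + 1, rfl⟩))
  let W := Wr R
  have hcomm : ∀ x ∈ W, ∀ y ∈ W, Commute x y := by
    intro x hx y hy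
    induction hx using Submodule.span_induction with
    | mem x hx =>
      obtain ⟨r, -, rfl⟩ := hx
      induction hy using Submodule.span_induction with
      | mem y hy => obtain ⟨s, -, rfl⟩ := hy; exact Commute.pow_pow_self _ _ _
      | zero => exact Commute.zero_right _
      | add _ _ _ _ h1 h2 => exact h1.add_right h2
      | smul c _ _ h1 => exact h1.smul_right c
    | zero => exact Commute.zero_left _
    | add _ _ _ _ h1 h2 => exact h1.add_left h2
    | smul c _ _ h1 => exact h1.smul_left c
  haveI : Nontrivial A := (Bialgebra.counitAlgHom k A).toRingHom.domain_nontrivial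
  haveI : CharP (Module.End k A) p := charP_of_injective_algebraMap (R := k) (A := Module.End k A) (by
    intro c c' h
    have h' := congrArg (fun f : Module.End k A => Bialgebra.counitAlgHom k A (f 1)) h
    simpa [Module.algebraMap_end_apply] using h') p
  have hpow : ∀ x ∈ W, x ^ p ∈ W := by
    intro x hx
    induction hx using Submodule.span_induction with
    | mem x hx =>
      obtain ⟨r, hr, rfl⟩ := hx
      refine Submodule.subset_span ⟨r + 1, by omega, ?_⟩
      rw [← pow_mul, ← pow_succ]
    | zero => rw [zero_pow (Fact.out : p.Prime).pos.ne']; exact zero_mem _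
    | add u v hu hv h1 h2 => rw [add_pow_char_of_commute p (hcomm u hu v hv)]; exact add_mem h1 h2
    | smul c u _ h1 => rw [_root_.smul_pow]; exact Submodule.smul_mem _ _ h1
  let F : W →+ W :=
    { toFun := fun x => ⟨x.1 ^ p, hpow _ x.2⟩
      map_zero' := Subtype.ext (zero_pow (Fact.out : p.Prime).pos.ne')
      map_add' := fun x y => Subtype.ext (add_pow_char_of_commute p (hcomm _ x.2 _ y.2)) }
  have hF : ∀ (c : k) (w : W), F (c • w) = c ^ p • F w := fun c w => Subtype.ext (_root_.smul_pow c (w : Module.End k A) p)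
  have hinj : Function.Injective F := injective_semilinear p F hF (by
    intro z _
    have hx' : (z : Module.End k A) ∈ Wr (R + 1) := hstab.symm ▸ z.2
    have : Wr (R + 1) ≤ (Submodule.span k (Set.range F)).map W.subtype := Submodule.span_le.2 (by
      rintro _ ⟨r, hr, rfl⟩
      refine ⟨F ⟨T ^ p ^ (r - 1), Submodule.subset_span ⟨r - 1, by omega, rfl⟩⟩, Submodule.subset_span ⟨_, rfl⟩, ?_⟩
      show (T ^ p ^ (r - 1)) ^ p = _
      rw [← pow_mul, ← pow_succ, Nat.sub_add_cancel (by omega)])
    obtain ⟨w, hw, hwz⟩ := this hx'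
    rwa [show z = w from Subtype.ext hwz.symm])
  haveI : Nontrivial W := by
    refine ⟨⟨⟨T ^ p ^ R, Submodule.subset_span ⟨R, le_rfl, rfl⟩⟩, 0, fun h0 => hnil (p ^ R) ?_⟩⟩
    exact LinearMap.congr_fun (congrArg Subtype.val h0) a
  obtain ⟨⟨y, hy⟩, hy0, hfix⟩ := exists_fixed_semilinear p F hF hinj
  obtain ⟨⟨σ, hσ⟩, hσy⟩ := hWle R hy
  have hσy' : inv σ = y := hσy
  refine h (exists_mu_of_toral p hσ ?_ ?_)
  · rw [hσy']; exact congrArg Subtype.val hfix
  · rw [hσy']; exact fun h0 => hy0 (Subtype.ext h0)

end

end Groth.Agent.H66.PUnip
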