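import Groth.Agent.H66.PUnip.Main
import Groth.Prelude.Def_LieHopf
import Groth.Agent.H66.Cot.Graded
import Groth.Agent.H66.Tame
import Mathlib

/-!
Tangent vectors: unipotent groups, change of the base field.
-/

set_option autoImplicit false
set_option linter.unusedSectionVars false
set_option linter.style.haveILetI false
universe u

namespace Groth.Agent.H66.PUnip

open TensorProduct Groth.Agent.Lib.Comod.Basic Groth.Agent.H66.Cot

noncomputable section

variable {k : Type u} [Field k] {A : Type u} [CommRing A] [HopfAlgebra k A]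

local notation "ε" => Bialgebra.counitAlgHom k A

variable (k A) in
/-- The space of tangent vectors. -/
def tangents : Submodule k (A →ₗ[k] k) where
  carrier := {τ | IsTangent τ}
  add_mem' {σ τ} (hσ hτ) a b := by simp only [LinearMap.add_apply, hσ a b, hτ a b]; ring
  zero_mem' a b := by simp
  smul_mem' c τ hτ a b := by simp only [LinearMap.smul_apply, hτ a b, smul_eq_mul]; ring

theorem mem_tangents {τ : A →ₗ[k] k} : τ ∈ tangents k A ↔ IsTangent τ := Iff.rfl

theorem tangents_finite [IsNoetherianRing A] : Module.Finite k (tangents k A) := by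
  haveI := finite_quot_low (k := k) (A := A)
  have hle : tangents k A ≤ LinearMap.range (low (k := k) (A := A)).mkQ.dualMap := by
    intro τ hτ
    rw [LinearMap.range_dualMap_eq_dualAnnihilator_ker, Submodule.ker_mkQ, Submodule.mem_dualAnnihilator]
    intro a ha
    obtain ⟨y, hy, z, hz, rfl⟩ := Submodule.mem_sup.1 ha
    obtain ⟨c, rfl⟩ := Submodule.mem_span_singleton.1 hy
    rw [map_add, map_smul, tangent_one hτ, smul_zero, zero_add]
    have hz' : z ∈ aug (k := k) (A := A) * aug (k := k) (A := A) := pow_two (aug (k := k) (A := A)) ▸ hz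
    refine Submodule.mul_induction_on hz' (fun b hb c hc => ?_) fun b c hb hc => by rw [map_add, hb, hc, add_zero]
    rw [hτ b c, mem_aug.1 hb, mem_aug.1 hc, zero_mul, mul_zero, add_zero]
  exact Module.Finite.of_injective (Submodule.inclusion hle) (Submodule.inclusion_injective hle)

theorem eq_of_generators {M : Type u} [AddCommGroup M] [Module k M] {f g : A →ₗ[k] M} {s : Set A}
    (hs : Algebra.adjoin k s = ⊤) (hf : ∀ a b, f (a * b) = ε a • f b + ε b • f a)
    (hg : ∀ a b, g (a * b) = ε a • g b + ε b • g a) (h : ∀ a ∈ s, f a = g a) : f = g := by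
  have h1 : ∀ {φ : A →ₗ[k] M}, (∀ a b, φ (a * b) = ε a • φ b + ε b • φ a) → φ 1 = 0 := fun {φ} hφ => by
    have := hφ 1 1
    simpa using this
  refine LinearMap.ext fun a => ?_
  have ha : a ∈ Algebra.adjoin k s := hs.symm ▸ Algebra.mem_top
  induction ha using Algebra.adjoin_induction with
  | mem x hx => exact h x hx
  | algebraMap c => rw [Algebra.algebraMap_eq_smul_one, map_smul, map_smul, h1 hf, h1 hg]
  | add x y _ _ hx hy => rw [map_add, map_add, hx, hy]
  | mul x y _ _ hx hy => rw [hf, hg, hx, hy]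

theorem isTangent_dlin (D : LieHopf.Lie k A) : IsTangent (LieHopf.dlin D) := fun a b => by
  rw [LieHopf.dlin_mul]; ring

theorem convPow_eq_powFun (τ : A →ₗ[k] k) : ∀ n, LieHopf.convPow τ n = powFun τ n
  | 0 => (powFun_zero τ).symm ▸ rfl
  | n + 1 => by
    rw [powFun_succ, ← convPow_eq_powFun τ n]
    rfl

/-- In a unipotent group the tangent vectors are nilpotent for the convolution. -/
theorem exists_powFun_eq_zero [Algebra.FiniteType k A] (p : ℕ) [Fact p.Prime] [CharP k p]
    (hU : HopfRep.IsUnipotent k A) {τ : A →ₗ[k] k} (hτ : IsTangent τ) : ∃ n, 0 < n ∧ powFun τ (p ^ n) = 0 := by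
  classical
  obtain ⟨s, hs⟩ := Algebra.FiniteType.out (R := k) (A := A)
  choose N hN using fun a : A => H66.Unip.mem_fil_exists hU a
  have hnil : ∀ n : ℕ, ∀ a ∈ H66.Unip.fil k A A n, (inv τ ^ n : Module.End k A) a = 0 := by
    intro n
    induction n with
    | zero => intro a ha; rw [H66.Unip.fil_zero, Submodule.mem_bot] at ha; rw [ha, map_zero]
    | succ n ih =>
      intro a ha
      rw [pow_succ, Module.End.mul_apply]
      refine ih _ ?_
      have h := H66.Unip.mem_fil_succ.1 ha τ
      rwa [tangent_one hτ, zero_smul, sub_zero] at h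
  let r := s.sup N + 1
  refine ⟨r, Nat.succ_pos _, ?_⟩
  have ht := isTangent_powFun p hτ r
  refine eq_of_generators hs (fun a b => ?_) (fun a b => by simp) fun a ha => ?_
  · rw [ht a b, smul_eq_mul, smul_eq_mul]; ring
  · show ε ((inv τ ^ p ^ r : Module.End k A) a) = 0
    have hle : N a ≤ p ^ r :=
      ((Finset.le_sup ha).trans (Nat.le_succ _)).trans (Nat.lt_pow_self (Fact.out : p.Prime).one_lt).le
    rw [hnil _ a (H66.Unip.fil_mono hle (hN a)), map_zero]

theorem dact_sub {V : Type u} [AddCommGroup V] [Module k V] [HopfRep.Comod k A V] (φ ψ : A →ₗ[k] k) (v : V) :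
    dact V (φ - ψ) v = dact V φ v - dact V ψ v := map_sub (dactAt V v) φ ψ

section BaseChange

variable {K : Type u} [Field K] [Algebra k K]

/-- The functional on the base change attached to a functional. -/
def bcFun (φ : A →ₗ[k] k) : K ⊗[k] A →ₗ[K] K :=
  (TensorProduct.AlgebraTensorModule.rid k K K).toLinearMap ∘ₗ φ.baseChange K

@[simp] theorem bcFun_tmul (φ : A →ₗ[k] k) (c : K) (a : A) : bcFun φ (c ⊗ₜ[k] a) = φ a • c := by
  simp [bcFun]

theorem bcFun_add (φ ψ : A →ₗ[k] k) : bcFun (K := K) (φ + ψ) = bcFun φ + bcFun ψ :=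
  LinearMap.ext fun z => by
    induction z using TensorProduct.induction_on with
    | zero => simp
    | add x y hx hy => simp only [map_add, hx, hy]
    | tmul c a => simp [add_smul]

theorem bcFun_smul (r : k) (φ : A →ₗ[k] k) : bcFun (K := K) (r • φ) = algebraMap k K r • bcFun φ :=
  LinearMap.ext fun z => by
    induction z using TensorProduct.induction_on with
    | zero => simp
    | add x y hx hy => simp only [map_add, hx, hy]
    | tmul c a => simp [Algebra.smul_def, mul_assoc]

theorem inv_bcFun (φ : A →ₗ[k] k) (c : K) (a : A) : inv (bcFun φ) (c ⊗ₜ[k] a) = c ⊗ₜ[k] inv φ a := by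
  show contract (K ⊗[k] A) (bcFun φ) (CoalgebraStruct.comul (R := K) (c ⊗ₜ[k] a)) =
    c ⊗ₜ[k] contract A φ (CoalgebraStruct.comul (R := k) a)
  rw [TensorProduct.comul_tmul]
  induction CoalgebraStruct.comul (R := k) a using TensorProduct.induction_on with
  | zero => simp
  | add x y hx hy => simp only [map_add, TensorProduct.tmul_add, hx, hy]
  | tmul x y =>
    simp [TensorProduct.AlgebraTensorModule.tensorTensorTensorComm, TensorProduct.smul_tmul',
      Algebra.smul_def, ← TensorProduct.tmul_smul]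
    rw [← Algebra.smul_def, ← Algebra.smul_def, TensorProduct.smul_tmul]

theorem conv_bcFun (φ ψ : A →ₗ[k] k) : conv (bcFun (K := K) φ) (bcFun ψ) = bcFun (conv φ ψ) := by
  rw [← counit_comp_inv, ← counit_comp_inv]
  refine LinearMap.ext fun z => ?_
  induction z using TensorProduct.induction_on with
  | zero => simp
  | add x y hx hy => simp only [map_add, hx, hy]
  | tmul c a => rw [LinearMap.comp_apply, inv_bcFun, bcFun_tmul, bcFun_tmul, LinearMap.comp_apply]

theorem inv_bcFun_pow (φ : A →ₗ[k] k) (n : ℕ) (c : K) (a : A) :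
    (inv (bcFun φ) ^ n : Module.End K (K ⊗[k] A)) (c ⊗ₜ[k] a) = c ⊗ₜ[k] (inv φ ^ n : Module.End k A) a := by
  induction n with
  | zero => rfl
  | succ n ih => rw [pow_succ', Module.End.mul_apply, ih, inv_bcFun, pow_succ', Module.End.mul_apply]

theorem inv_bcFun_bracket (φ ψ : A →ₗ[k] k) (z : K ⊗[k] A) :
    inv (bcFun (conv φ ψ - conv ψ φ)) z =
      inv (bcFun φ) (inv (bcFun ψ) z) - inv (bcFun ψ) (inv (bcFun φ) z) := by
  induction z using TensorProduct.induction_on with
  | zero => simp
  | add x y hx hy => simp only [map_add, hx, hy]; abel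
  | tmul c a =>
    rw [inv_bcFun, inv_bcFun, inv_bcFun, inv_bcFun, inv_bcFun, ← TensorProduct.tmul_sub]
    congr 1
    show dact A (conv φ ψ - conv ψ φ) a = dact A φ (dact A ψ a) - dact A ψ (dact A φ a)
    rw [dact_dact, dact_dact, dact_sub]

/-- If the tangent vectors are nilpotent for the convolution then after any change of the base field all tangent
vectors act locally nilpotently. -/
theorem locNil_baseChange [Algebra.FiniteType k A] (p : ℕ) [Fact p.Prime] [CharP k p]
    (h : ∀ τ : A →ₗ[k] k, IsTangent τ → ∃ n, powFun τ (p ^ n) = 0) : LocNil K (K ⊗[k] A) := by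
  classical
  intro τ hτ a
  haveI : IsNoetherianRing A := Algebra.FiniteType.isNoetherianRing k A
  haveI := tangents_finite (k := k) (A := A)
  let C := cyclic (k := K) (A := K ⊗[k] A) (K ⊗[k] A) a
  haveI : Module.Finite K C := Module.Finite.iff_fg.2 (cyclic_fg _ a)
  have hC : ∀ φ : K ⊗[k] A →ₗ[K] K, ∀ x ∈ C, inv φ x ∈ C := fun φ x hx => dact_mem (isSubcomod_cyclic a) φ hx
  let R : (K ⊗[k] A →ₗ[K] K) → Module.End K C := fun φ => (inv φ).restrict (hC φ)
  have hR : ∀ φ (x : C), (R φ x : K ⊗[k] A) = inv φ x := fun φ x => rfl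
  let Φ : tangents k A →ₗ[k] Module.End k C :=
    { toFun := fun σ => (R (bcFun σ.1)).restrictScalars k
      map_add' := fun σ σ' => LinearMap.ext fun x => Subtype.ext (by
        show inv (bcFun (σ.1 + σ'.1)) (x : K ⊗[k] A) = inv (bcFun σ.1) (x : K ⊗[k] A) + inv (bcFun σ'.1) (x : K ⊗[k] A)
        rw [bcFun_add]
        exact map_add (dactAt (K ⊗[k] A) (x : K ⊗[k] A)) _ _)
      map_smul' := fun r σ => LinearMap.ext fun x => Subtype.ext (by
        show inv (bcFun (r • σ.1)) (x : K ⊗[k] A) = r • inv (bcFun σ.1) (x : K ⊗[k] A)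
        rw [bcFun_smul, ← algebraMap_smul K r (inv (bcFun σ.1) (x : K ⊗[k] A))]
        exact map_smul (dactAt (K ⊗[k] A) (x : K ⊗[k] A)) _ _) }
  have hΦ : ∀ (σ : tangents k A) (x : C), (Φ σ x : K ⊗[k] A) = inv (bcFun σ.1) (x : K ⊗[k] A) := fun σ x => rfl
  have hpowR : ∀ (φ : K ⊗[k] A →ₗ[K] K) (n : ℕ) (x : C),
      ((R φ ^ n) x : K ⊗[k] A) = (inv φ ^ n : Module.End K (K ⊗[k] A)) x := by
    intro φ n
    induction n with
    | zero => intro x; rfl
    | succ n ih => intro x; rw [pow_succ', Module.End.mul_apply, hR, ih, pow_succ' (inv φ), Module.End.mul_apply]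
  have hnilΦ : ∀ x ∈ LinearMap.range Φ, IsNilpotent x := by
    rintro _ ⟨σ, rfl⟩
    obtain ⟨n, hn⟩ := h σ.1 σ.2
    refine ⟨p ^ n, LinearMap.ext fun x => Subtype.ext ?_⟩
    have h1 : ∀ m, (Φ σ ^ m) x = (R (bcFun σ.1) ^ m) x := by
      intro m
      induction m with
      | zero => rfl
      | succ m ih => rw [pow_succ', Module.End.mul_apply, ih, pow_succ', Module.End.mul_apply]; rfl
    rw [h1, hpowR, LinearMap.zero_apply, Submodule.coe_zero]
    generalize (x : K ⊗[k] A) = z
    induction z using TensorProduct.induction_on with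
    | zero => simp
    | add u v hu hv => rw [map_add, hu, hv, add_zero]
    | tmul c b =>
      rw [inv_bcFun_pow, inv_pow, hn]
      simp [inv, contract]
  have hbr : ∀ x ∈ LinearMap.range Φ, ∀ y ∈ LinearMap.range Φ, x * y - y * x ∈ LinearMap.range Φ := by
    rintro _ ⟨σ, rfl⟩ _ ⟨σ', rfl⟩
    refine ⟨⟨_, conv_sub_isTangent σ.2 σ'.2⟩, LinearMap.ext fun x => Subtype.ext ?_⟩
    rw [LinearMap.sub_apply, Submodule.coe_sub, Module.End.mul_apply, Module.End.mul_apply, hΦ, hΦ, hΦ, hΦ, hΦ,
      inv_bcFun_bracket]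
  have hlin : ∀ x ∈ LinearMap.range Φ, ∀ (c : K) (v : C), x (c • v) = c • x v := by
    rintro _ ⟨σ, rfl⟩ c v
    exact map_smul (R (bcFun σ.1)) c v
  -- the tangent vector as a combination of tangent vectors defined over the ground field
  let τA : A →ₗ[k] K := τ.restrictScalars k ∘ₗ TensorProduct.mk k K A 1
  have hε : ∀ x : A, Bialgebra.counitAlgHom K (K ⊗[k] A) ((1 : K) ⊗ₜ[k] x) = algebraMap k K (ε x) := fun x => by
    show CoalgebraStruct.counit (R := K) ((1 : K) ⊗ₜ[k] x) = _
    simp [Algebra.smul_def]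
  have hτA : ∀ x y, τA (x * y) = ε x • τA y + ε y • τA x := fun x y => by
    show τ ((1 : K) ⊗ₜ[k] (x * y)) = _
    rw [show (1 : K) ⊗ₜ[k] (x * y) = ((1 : K) ⊗ₜ[k] x) * ((1 : K) ⊗ₜ[k] y) by
      rw [Algebra.TensorProduct.tmul_mul_tmul, one_mul], hτ, hε, hε, Algebra.smul_def, Algebra.smul_def]
    show _ = algebraMap k K _ * τ ((1 : K) ⊗ₜ[k] y) + algebraMap k K _ * τ ((1 : K) ⊗ₜ[k] x)
    ring
  let b := Module.Free.chooseBasis k K
  obtain ⟨g, hg⟩ := Algebra.FiniteType.out (R := k) (A := A)
  let s := g.biUnion fun x => (b.repr (τA x)).support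
  let D : Module.Free.ChooseBasisIndex k K → tangents k A := fun i => ⟨b.coord i ∘ₗ τA, fun x y => by
    simp only [LinearMap.comp_apply, hτA, map_add, map_smul, smul_eq_mul]
    ring⟩
  have hτs : τ = ∑ i ∈ s, b i • bcFun (D i).1 := by
    let G : A →ₗ[k] K := ∑ i ∈ s, (D i).1.smulRight (b i)
    have hG : ∀ x, G x = ∑ i ∈ s, (D i).1 x • b i := fun x => by simp [G]
    have : τA = G := eq_of_generators hg hτA
      (fun x y => by
        simp only [hG, Finset.smul_sum, ← Finset.sum_add_distrib]
        refine Finset.sum_congr rfl fun i _ => ?_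
        rw [(D i).2 x y, add_smul, smul_smul, smul_smul, mul_comm ((D i).1 x)])
      fun x hx => by
        rw [hG]
        conv_lhs => rw [← b.linearCombination_repr (τA x), Finsupp.linearCombination_apply]
        exact Finsupp.sum_of_support_subset _ (fun i hi => Finset.mem_biUnion.2 ⟨x, hx, hi⟩) _ fun i _ => zero_smul k _
    refine LinearMap.ext fun z => ?_
    induction z using TensorProduct.induction_on with
    | zero => simp
    | add u v hu hv => simp only [map_add, hu, hv]
    | tmul c x =>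
      rw [show c ⊗ₜ[k] x = c • ((1 : K) ⊗ₜ[k] x) by rw [TensorProduct.smul_tmul', smul_eq_mul, mul_one], map_smul,
        map_smul, show τ ((1 : K) ⊗ₜ[k] x) = τA x from rfl, this, hG]
      congr 1
      simp only [LinearMap.sum_apply, LinearMap.smul_apply, bcFun_tmul, smul_eq_mul, Algebra.smul_def, mul_one]
      exact Finset.sum_congr rfl fun i _ => mul_comm _ _
  obtain ⟨n, hn⟩ := isNilpotent_comb (LinearMap.range Φ) hlin hbr hnilΦ s (fun i => b i) (fun i => Φ (D i))
    (fun i _ => ⟨D i, rfl⟩) (R τ) fun v => Subtype.ext (by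
      rw [hR, hτs, Submodule.coe_sum]
      show dactAt (K ⊗[k] A) (v : K ⊗[k] A) (∑ i ∈ s, b i • bcFun (D i).1) = _
      rw [map_sum]
      refine Finset.sum_congr rfl fun i _ => ?_
      rw [map_smul]
      rfl)
  refine ⟨n, ?_⟩
  have := congrArg Subtype.val (LinearMap.congr_fun hn ⟨a, self_mem_cyclic _ a⟩)
  rw [hpowR] at this
  exact this

end BaseChange

end

end Groth.Agent.H66.PUnip
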